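import Mathlib

/-!
# NO-3L, box R, case (A), `NsF` ((c) of #22083): the count

`F` a finite field, `D` a finite abelian group, `th : F →+ D` not zero, `X ≤ F × D` with `X ∩ (0 × D) = 0`. If
`|{f | (c f, th (c² f)) ∈ X}| |D| ≤ |X|` for all `c ≠ 0`, then `X = F × 0` and `th` is surjective (`count`). No
characteristic, no hypothesis on `|F|`.
-/

set_option autoImplicit false
set_option linter.unusedSectionVars false

namespace Cfsg.Agent.Omega.NOThreeL.NsF

open Finset

variable {F : Type*} [Field F] {D : Type*} [AddCommGroup D]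

/-- `K_c = {f | (c f, th (c² f)) ∈ X}` -/
def Kc (th : F →+ D) (X : AddSubgroup (F × D)) (c : F) : AddSubgroup F where
  carrier := {f | (c * f, th (c ^ 2 * f)) ∈ X}
  add_mem' := by
    intro a b ha hb
    have h := X.add_mem ha hb
    rw [Prod.mk_add_mk, ← mul_add, ← map_add, ← mul_add] at h
    exact h
  zero_mem' := by
    change (c * 0, th (c ^ 2 * 0)) ∈ X
    rw [mul_zero, mul_zero, map_zero]
    exact X.zero_mem
  neg_mem' := by
    intro a ha
    have h := X.neg_mem ha
    rw [Prod.neg_mk, ← mul_neg, ← map_neg, ← mul_neg] at h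
    exact h

theorem mem_Kc {th : F →+ D} {X : AddSubgroup (F × D)} {c f : F} :
    f ∈ Kc th X c ↔ (c * f, th (c ^ 2 * f)) ∈ X := Iff.rfl

/-- first projection of `X` -/
abbrev pX (X : AddSubgroup (F × D)) : AddSubgroup F := X.map (AddMonoidHom.fst F D)

/-- `{s | (s, d) ∈ X for some d ∈ th F}` -/
def nuX (th : F →+ D) (X : AddSubgroup (F × D)) : AddSubgroup F where
  carrier := {s | ∃ g, (s, th g) ∈ X}
  add_mem' := by
    rintro a b ⟨g, hg⟩ ⟨g', hg'⟩
    refine ⟨g + g', ?_⟩
    rw [map_add, ← Prod.mk_add_mk]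
    exact X.add_mem hg hg'
  zero_mem' := ⟨0, by rw [map_zero]; exact X.zero_mem⟩
  neg_mem' := by
    rintro a ⟨g, hg⟩
    refine ⟨-g, ?_⟩
    rw [map_neg, ← Prod.neg_mk]
    exact X.neg_mem hg

/-- `{s | (s, 0) ∈ X}` -/
def kapX (X : AddSubgroup (F × D)) : AddSubgroup F where
  carrier := {s | (s, 0) ∈ X}
  add_mem' := by
    intro a b ha hb
    have h := X.add_mem ha hb
    rw [Prod.mk_add_mk, add_zero] at h
    exact h
  zero_mem' := X.zero_mem
  neg_mem' := by
    intro a ha
    have h := X.neg_mem ha
    rw [Prod.neg_mk, neg_zero] at h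
    exact h

section count

variable [Fintype F] [Finite D] {th : F →+ D} {X : AddSubgroup (F × D)}

open Classical in
/-- `|{g | (s, th g) ∈ X}|` is `|ker th|` or `0` -/
theorem card_fib (hX : ∀ d, ((0 : F), d) ∈ X → d = 0) (s : F) :
    (univ.filter fun g : F => (s, th g) ∈ X).card = if s ∈ nuX th X then Nat.card th.ker else 0 := by
  split_ifs with hs
  · obtain ⟨g₀, h₀⟩ := hs
    have h1 : (univ.filter fun g : F => (s, th g) ∈ X) = (univ.filter fun g : F => g ∈ th.ker).map
        (addLeftEmbedding g₀) := by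
      ext g
      simp only [mem_filter, mem_univ, true_and, mem_map, addLeftEmbedding_apply]
      constructor
      · intro h
        refine ⟨g - g₀, ?_, add_sub_cancel g₀ g⟩
        have h2 := X.sub_mem h h₀
        rw [Prod.mk_sub_mk, sub_self, ← map_sub] at h2
        exact hX _ h2
      · rintro ⟨x, hx, rfl⟩
        rw [map_add, (AddMonoidHom.mem_ker.mp hx : th x = 0), add_zero]
        exact h₀
    rw [h1, card_map, Nat.card_eq_fintype_card, Fintype.card_subtype]
  · rw [card_eq_zero, filter_eq_empty_iff]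
    intro g _ hg
    exact hs ⟨g, hg⟩

open Classical in
/-- `∑_{c ≠ 0} |K_c| + |ker n| + |ker th| = |F| + |n⁻¹ (th F)| |ker th|` -/
theorem sum_card (hX : ∀ d, ((0 : F), d) ∈ X → d = 0) :
    (∑ c ∈ univ.erase (0 : F), Nat.card (Kc th X c)) + Nat.card (kapX X) + Nat.card th.ker =
      Fintype.card F + Nat.card (nuX th X) * Nat.card th.ker := by
  -- for fixed `c`
  have h1 : ∀ c : F, (∑ s : F, if (s, th (c * s)) ∈ X then 1 else 0) =
      if c = 0 then Nat.card (kapX X) else Nat.card (Kc th X c) := by
    intro c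
    rw [← card_filter]
    split_ifs with hc
    · subst hc
      rw [Nat.card_eq_fintype_card, Fintype.card_subtype]
      congr 1
      ext s
      simp only [mem_filter, mem_univ, true_and, zero_mul, map_zero]
      exact Iff.rfl
    · rw [Nat.card_eq_fintype_card, Fintype.card_subtype]
      refine card_bij' (fun s _ => c⁻¹ * s) (fun f _ => c * f) ?_ ?_ ?_ ?_
      · intro s hs
        simp only [mem_filter, mem_univ, true_and] at hs ⊢
        rw [mem_Kc, pow_two, mul_assoc, mul_inv_cancel_left₀ hc]
        exact hs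
      · intro f hf
        simp only [mem_filter, mem_univ, true_and] at hf ⊢
        rw [mem_Kc, pow_two, mul_assoc] at hf
        exact hf
      · intro s _
        exact mul_inv_cancel_left₀ hc s
      · intro f _
        exact inv_mul_cancel_left₀ hc f
  -- for fixed `s`
  have h2 : ∀ s : F, (∑ c : F, if (s, th (c * s)) ∈ X then 1 else 0) =
      if s = 0 then Fintype.card F else if s ∈ nuX th X then Nat.card th.ker else 0 := by
    intro s
    rw [← card_filter]
    split_ifs with hs hs'
    · subst hs
      rw [filter_true_of_mem, card_univ]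
      intro c _
      rw [mul_zero, map_zero]
      exact X.zero_mem
    · rw [← (card_fib (th := th) hX s).trans (if_pos hs')]
      refine card_bij' (fun c _ => c * s) (fun g _ => g * s⁻¹) ?_ ?_ ?_ ?_
      · intro c hc
        simpa only [mem_filter, mem_univ, true_and] using hc
      · intro g hg
        simp only [mem_filter, mem_univ, true_and] at hg ⊢
        rwa [inv_mul_cancel_right₀ hs]
      · intro c _
        exact mul_inv_cancel_right₀ hs c
      · intro g _
        exact inv_mul_cancel_right₀ hs g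
    · rw [card_eq_zero, filter_eq_empty_iff]
      intro c _ hc
      exact hs' ⟨_, hc⟩
  have h3 := sum_comm (s := (univ : Finset F)) (t := (univ : Finset F))
    (f := fun c s => if (s, th (c * s)) ∈ X then 1 else 0)
  simp only [h1, h2] at h3
  have h4 : (∑ c : F, if c = 0 then Nat.card (kapX X) else Nat.card (Kc th X c)) =
      Nat.card (kapX X) + ∑ c ∈ univ.erase (0 : F), Nat.card (Kc th X c) := by
    rw [← add_sum_erase _ _ (mem_univ (0 : F)), if_pos rfl]
    congr 1
    exact sum_congr rfl fun c hc => if_neg (ne_of_mem_erase hc)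
  have h5 : (∑ s : F, if s = 0 then Fintype.card F else if s ∈ nuX th X then Nat.card th.ker else 0) +
      Nat.card th.ker = Fintype.card F + Nat.card (nuX th X) * Nat.card th.ker := by
    rw [← add_sum_erase _ _ (mem_univ (0 : F)), if_pos rfl, add_assoc]
    congr 1
    have h6 : (∑ s ∈ univ.erase (0 : F), if s = 0 then Fintype.card F else
        if s ∈ nuX th X then Nat.card th.ker else 0) =
        ∑ s ∈ univ.erase (0 : F), if s ∈ nuX th X then Nat.card th.ker else 0 :=
      sum_congr rfl fun c hc => if_neg (ne_of_mem_erase hc)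
    rw [h6]
    have h7 : (if (0 : F) ∈ nuX th X then Nat.card th.ker else 0) = Nat.card th.ker := if_pos (zero_mem _)
    have h8 := sum_erase_add univ (fun s : F => if s ∈ nuX th X then Nat.card th.ker else 0) (mem_univ (0 : F))
    rw [h7] at h8
    rw [h8, ← sum_filter, sum_const, smul_eq_mul, Nat.card_eq_fintype_card (α := nuX th X), Fintype.card_subtype]
  rw [h4] at h3
  omega

/-- `|X| |th F| ≤ |n⁻¹ (th F)| |D|` -/
theorem card_nu (hX : ∀ d, ((0 : F), d) ∈ X → d = 0) :
    Nat.card X * Nat.card th.range ≤ Nat.card (nuX th X) * Nat.card D := by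
  -- the map `X → D / th F`
  let f : X →+ D ⧸ th.range := (QuotientAddGroup.mk' th.range).comp ((AddMonoidHom.snd F D).comp X.subtype)
  have h1 : Nat.card f.ker = Nat.card (nuX th X) := by
    refine Nat.card_congr (Equiv.ofBijective (fun x => ⟨x.1.1.1, ?_⟩) ⟨?_, ?_⟩)
    · have h2 := x.2
      rw [AddMonoidHom.mem_ker] at h2
      have h3 : x.1.1.2 ∈ th.range := (QuotientAddGroup.eq_zero_iff _).mp h2
      obtain ⟨g, hg⟩ := h3
      refine ⟨g, ?_⟩
      rw [hg]
      exact x.1.2
    · rintro ⟨⟨⟨s, d⟩, h⟩, h'⟩ ⟨⟨⟨s', d'⟩, k⟩, k'⟩ he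
      have he' : s = s' := congrArg Subtype.val he
      subst he'
      have h2 := X.sub_mem h k
      rw [Prod.mk_sub_mk, sub_self] at h2
      have h3 := sub_eq_zero.mp (hX _ h2)
      subst h3
      rfl
    · rintro ⟨s, g, hg⟩
      refine ⟨⟨⟨(s, th g), hg⟩, ?_⟩, rfl⟩
      rw [AddMonoidHom.mem_ker]
      exact (QuotientAddGroup.eq_zero_iff _).mpr ⟨g, rfl⟩
  have h2 : Nat.card X = Nat.card f.ker * Nat.card f.range := by
    rw [AddSubgroup.card_eq_card_quotient_mul_card_addSubgroup f.ker, mul_comm,
      Nat.card_congr (QuotientAddGroup.quotientKerEquivRange f).toEquiv]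
  have h3 : Nat.card f.range ≤ Nat.card (D ⧸ th.range) := Nat.card_le_card_of_injective _ Subtype.val_injective
  have h4 : Nat.card D = Nat.card (D ⧸ th.range) * Nat.card th.range :=
    AddSubgroup.card_eq_card_quotient_mul_card_addSubgroup _
  rw [h2, h4, h1]
  calc _ ≤ Nat.card (nuX th X) * Nat.card (D ⧸ th.range) * Nat.card th.range :=
        Nat.mul_le_mul_right _ (Nat.mul_le_mul_left _ h3)
    _ = _ := by ring

/-- **The count** (835's form of #22083 (c)). -/
theorem count_aux (hX : ∀ d, ((0 : F), d) ∈ X → d = 0)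
    (h : ∀ c : F, c ≠ 0 → Nat.card (Kc th X c) * Nat.card D ≤ Nat.card X) :
    Fintype.card F * Nat.card D + Nat.card X ≤ (Nat.card (kapX X) + Nat.card th.ker) * Nat.card D := by
  classical
  have h1 := sum_card (th := th) hX
  have h2 := card_nu (th := th) hX
  have h3 : Nat.card th.range * Nat.card th.ker = Fintype.card F := by
    rw [← Nat.card_eq_fintype_card, AddSubgroup.card_eq_card_quotient_mul_card_addSubgroup th.ker,
      Nat.card_congr (QuotientAddGroup.quotientKerEquivRange th).toEquiv]
  have h4 : (∑ c ∈ univ.erase (0 : F), Nat.card (Kc th X c)) * Nat.card D ≤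
      (Fintype.card F - 1) * Nat.card X := by
    rw [sum_mul]
    refine (sum_le_card_nsmul _ _ (Nat.card X) fun c hc => h c (ne_of_mem_erase hc)).trans ?_
    rw [card_erase_of_mem (mem_univ _), card_univ, smul_eq_mul]
  have h5 : Nat.card X * Fintype.card F ≤ Nat.card (nuX th X) * Nat.card th.ker * Nat.card D := by
    rw [← h3]
    calc _ = (Nat.card X * Nat.card th.range) * Nat.card th.ker := by ring
      _ ≤ (Nat.card (nuX th X) * Nat.card D) * Nat.card th.ker := Nat.mul_le_mul_right _ h2
      _ = _ := by ring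
  have h6 : (Fintype.card F - 1) * Nat.card X + Nat.card X = Nat.card X * Fintype.card F := by
    have h7 : 0 < Fintype.card F := Fintype.card_pos
    obtain ⟨n, hn⟩ : ∃ n, Fintype.card F = n + 1 := ⟨Fintype.card F - 1, by omega⟩
    rw [hn, Nat.add_sub_cancel]
    ring
  have h7 := congrArg (fun x => x * Nat.card D) h1
  simp only [add_mul] at h7
  rw [add_mul]
  nlinarith

end count

/-- **THE COUNT.** -/
theorem count [Finite F] [Finite D] {th : F →+ D} {X : AddSubgroup (F × D)} (hth : th ≠ 0)
    (hX : ∀ d, ((0 : F), d) ∈ X → d = 0)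
    (h : ∀ c : F, c ≠ 0 → Nat.card (Kc th X c) * Nat.card D ≤ Nat.card X) :
    (∀ x, x ∈ X ↔ x.2 = 0) ∧ Function.Surjective th := by
  classical
  have : Fintype F := Fintype.ofFinite F
  have h1 := count_aux hX h
  have h3 : Nat.card th.range * Nat.card th.ker = Fintype.card F := by
    rw [← Nat.card_eq_fintype_card, AddSubgroup.card_eq_card_quotient_mul_card_addSubgroup th.ker,
      Nat.card_congr (QuotientAddGroup.quotientKerEquivRange th).toEquiv]
  have h4 : 2 ≤ Nat.card th.range := by
    by_contra hcon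
    have h5 : Nat.card th.range = 1 := by
      have : 0 < Nat.card th.range := Nat.card_pos
      omega
    refine hth ?_
    ext g
    have h6 : Subsingleton th.range := (Nat.card_eq_one_iff_unique.mp h5).1
    have h7 := h6.elim ⟨th g, g, rfl⟩ ⟨0, zero_mem _⟩
    exact congrArg Subtype.val h7
  have h5 : 0 < Nat.card D := Nat.card_pos
  have h6 : 0 < Nat.card X := Nat.card_pos
  have hker : 2 * Nat.card th.ker ≤ Fintype.card F := by
    rw [← h3]
    exact Nat.mul_le_mul_right _ h4
  -- `|ker n| > q / 2`
  have h7 : Fintype.card F < 2 * Nat.card (kapX X) := by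
    by_contra hcon
    push Not at hcon
    have h8 : 2 * (Nat.card (kapX X) + Nat.card th.ker) ≤ 2 * Fintype.card F := by omega
    have h9 : Nat.card (kapX X) + Nat.card th.ker ≤ Fintype.card F := by omega
    have h10 := Nat.mul_le_mul_right (Nat.card D) h9
    omega
  have h8 : kapX X = ⊤ := by
    have h9 : Nat.card (kapX X) ∣ Nat.card F := AddSubgroup.card_addSubgroup_dvd_card _
    rw [Nat.card_eq_fintype_card (α := F)] at h9
    obtain ⟨m, hm⟩ := h9
    have hm1 : m = 1 := by
      have h10 : 0 < Fintype.card F := Fintype.card_pos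
      rcases Nat.lt_or_ge m 2 with h11 | h11
      · have : m ≠ 0 := by rintro rfl; omega
        omega
      · have := Nat.mul_le_mul_left (Nat.card (kapX X)) h11
        omega
    rw [hm1, mul_one] at hm
    apply AddSubgroup.eq_top_of_card_eq
    rw [← hm, Nat.card_eq_fintype_card]
  have h9 : ∀ x, x ∈ X ↔ x.2 = 0 := by
    rintro ⟨s, d⟩
    have hs : (s, (0 : D)) ∈ X := by
      have : s ∈ kapX X := by rw [h8]; trivial
      exact this
    constructor
    · intro hx
      have h10 := X.sub_mem hx hs
      rw [Prod.mk_sub_mk, sub_self, sub_zero] at h10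
      exact hX _ h10
    · intro hx
      have hx' : d = 0 := hx
      rw [hx']
      exact hs
  refine ⟨h9, ?_⟩
  have h10 : Nat.card X = Fintype.card F := by
    rw [← Nat.card_eq_fintype_card]
    refine Nat.card_congr ⟨fun x => x.1.1, fun s => ⟨(s, 0), (h9 _).mpr rfl⟩, ?_, fun s => rfl⟩
    rintro ⟨⟨s, d⟩, hx⟩
    have : d = 0 := (h9 _).mp hx
    subst this
    rfl
  have h11 : Nat.card (Kc th X 1) = Nat.card th.ker := by
    congr 1
    congr 1
    ext f
    rw [mem_Kc, h9, AddMonoidHom.mem_ker]
    simp only [one_pow, one_mul]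
  have h12 := h 1 one_ne_zero
  rw [h11, h10, ← h3, mul_comm (Nat.card th.range)] at h12
  have h13 : Nat.card D ≤ Nat.card th.range := Nat.le_of_mul_le_mul_left h12 Nat.card_pos
  have h14 : th.range = ⊤ := AddSubgroup.eq_top_of_le_card _ h13
  exact AddMonoidHom.range_eq_top.mp h14

end Cfsg.Agent.Omega.NOThreeL.NsF
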