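import Cfsg.Agent.Omega.NOThreeL.RA.Pair
import Cfsg.Agent.Omega.NoFF.Main

/-!
# NO-3L, box R, case (A), `NsF` (#22083, helper618): (a) LEMMA A and (b), group level

`Ov S P S₀ Zp H` : the situation over `S₀`: `V = V_P ≤ S₀ ≤ S ≤ H`, `Zp ≤ V` centralised by `S₀`, `wc` : `V^n ≤ S`
implies `V^n ≤ S₀` (761 (1)), `noff` : no mutual pair of conjugates of `V`. `X` is any subgroup with `S₀ ≤ X ≤ H`,
`NN S P X = ⟨V^X⟩`.

* `Ov.wc'` : `S₀^h ≤ S^m`, `V^n ≤ S^m` imply `V^n ≤ S₀^h` (weak closure);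
* **`Ov.lemA`** (LEMMA A) : `z ∈ Zp^h`, `V^h ≤ O₂(C_X(z))`, `[n, z]` centralised by `⟨V^X⟩` imply `[V^h, V^(nh)] = 1`;
* `Ov.pgroup` : moreover `n² = 1` : `⟨V^h, n⟩` is a 2-group;
* `Mn S P S₀ Zp H X` : `X` is minimal over `S₀` with `V ≰ O₂(X)`; `Mn.sup` : `X = ⟨V^X⟩ S₀`; `Mn.fx` :
  `C_Zp(⟨V^X⟩) = F_X := C_Zp(X)`; `Mn.good` : `z ∈ Zp^h - F_X` implies `V^h ≤ O₂(C_X(z))`;
* **`Mn.opp`** : `a ∈ V - O₂(X)` : some `x ∈ X` with `[a, z] ∉ C(⟨V^X⟩)` for all `z ∈ Zp^x - F_X`.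
-/

set_option autoImplicit false
set_option linter.unusedSectionVars false

namespace Cfsg.Agent.Omega.NOThreeL.NsF

open Subgroup Cfsg Cfsg.Agent.Omega.MinPar
open Cfsg.Agent.ZN (zc zl o2)
open Cfsg.Agent.Omega.Frame Cfsg.Agent.Omega.FrameNOFF
open Cfsg.Agent.Omega.NoFF.Basic (conj_conj mem_conj conj_le_iff conj_le_centralizer comm_symm comm_mono)
open Cfsg.Agent.Omega.NOThreeL.Pair (conj_eq_of_mem conj_le_normalizer zl_abel)
open Cfsg.Agent.MinSimple.VModule (o2_isPGroup le_normalizer_o2 le_o2 o2_le)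
open Cfsg.Agent.Omega.NOThreeL (mem_normalizer_of_conj_eq le_normalizer_of)
open Cfsg.Agent.Omega.NOThreeL.RTools (cm cm_def cm_mul NN conj_mem_of_mem conj_le_NN le_NN NN_le le_normalizer_NN)
open scoped Pointwise

universe u

variable {G : Type u} [Group G]

/-- The situation over `S₀`. -/
structure Ov [Finite G] (S : Sylow 2 G) (P S₀ Zp H : Subgroup G) : Prop where
  SH : (S : Subgroup G) ≤ H
  S0S : S₀ ≤ (S : Subgroup G)
  VS0 : zl (S : Subgroup G) P ≤ S₀
  ZpV : Zp ≤ zl (S : Subgroup G) P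
  cent : ∀ z ∈ Zp, ∀ s ∈ S₀, s * z = z * s
  wc : ∀ n ∈ H, MulAut.conj n • zl (S : Subgroup G) P ≤ (S : Subgroup G) → MulAut.conj n • zl (S : Subgroup G) P ≤ S₀
  noff : ∀ g h : G, MulAut.conj g • zl (S : Subgroup G) P ≤ MulAut.conj h • (S : Subgroup G) →
    MulAut.conj h • zl (S : Subgroup G) P ≤ MulAut.conj g • (S : Subgroup G) →
    MulAut.conj g • zl (S : Subgroup G) P ≤
      centralizer ((MulAut.conj h • zl (S : Subgroup G) P : Subgroup G) : Set G)

/-- the product of the conjugates of `V` in `S` -/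
def NS (S P H : Subgroup G) : Subgroup G :=
  ⨆ n : {n : G // n ∈ H ∧ MulAut.conj n • zl S P ≤ S}, MulAut.conj (n : G) • zl S P

/-- `O₂` of a conjugate -/
theorem conj_le_o2 [Finite G] {A X : Subgroup G} {z h : G} (hh : h ∈ X) (hA : A ≤ o2 (X ⊓ centralizer ({z} : Set G))) :
    MulAut.conj h • A ≤ o2 (X ⊓ centralizer ({h * z * h⁻¹} : Set G)) := by
  have h1 : MulAut.conj h • (X ⊓ centralizer ({z} : Set G)) = X ⊓ centralizer ({h * z * h⁻¹} : Set G) := by
    ext x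
    rw [mem_conj, mem_inf, mem_inf, mem_centralizer_iff, mem_centralizer_iff]
    simp only [Set.mem_singleton_iff, forall_eq]
    constructor
    · rintro ⟨h1, h2⟩
      refine ⟨?_, ?_⟩
      · have h3 := mul_mem (mul_mem hh h1) (inv_mem hh)
        have e1 : h * (h⁻¹ * x * h) * h⁻¹ = x := by group
        rwa [e1] at h3
      · calc h * z * h⁻¹ * x = h * (z * (h⁻¹ * x * h)) * h⁻¹ := by group
          _ = h * ((h⁻¹ * x * h) * z) * h⁻¹ := by rw [h2]
          _ = x * (h * z * h⁻¹) := by group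
    · rintro ⟨h1, h2⟩
      refine ⟨mul_mem (mul_mem (inv_mem hh) h1) hh, ?_⟩
      calc z * (h⁻¹ * x * h) = h⁻¹ * ((h * z * h⁻¹) * x) * h := by group
        _ = h⁻¹ * (x * (h * z * h⁻¹)) * h := by rw [h2]
        _ = h⁻¹ * x * h * z := by group
  have h2 := (conj_le_iff (g := h)).2 hA
  rwa [← Cfsg.Agent.MinSimple.CosetFam.o2_conj, h1] at h2

theorem le_of_conj_le {A B : Subgroup G} {g : G} (h : MulAut.conj g • A ≤ MulAut.conj g • B) : A ≤ B := conj_le_iff.1 h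

namespace Ov

variable [Finite G] {S : Sylow 2 G} {P S₀ Zp H : Subgroup G} (D : Ov S P S₀ Zp H)
include D

theorem NS_le : NS (S : Subgroup G) P H ≤ S₀ := iSup_le fun n => D.wc n n.2.1 n.2.2

theorem S_norm (h : G) : MulAut.conj h • S₀ ≤ MulAut.conj h • (S : Subgroup G) := conj_le_iff.2 D.S0S

/-- **weak closure** -/
theorem wc' {h m n : G} (hh : h ∈ H) (hm : m ∈ H) (hn : n ∈ H)
    (h1 : MulAut.conj h • S₀ ≤ MulAut.conj m • (S : Subgroup G))
    (h2 : MulAut.conj n • zl (S : Subgroup G) P ≤ MulAut.conj m • (S : Subgroup G)) :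
    MulAut.conj n • zl (S : Subgroup G) P ≤ MulAut.conj h • S₀ := by
  -- `N_S^(m⁻¹ h) ≤ N_S`
  have h3 : MulAut.conj (m⁻¹ * h) • NS (S : Subgroup G) P H ≤ NS (S : Subgroup G) P H := by
    rw [← conj_le_iff (g := (m⁻¹ * h)⁻¹), conj_conj, inv_mul_cancel, map_one, one_smul]
    refine iSup_le fun x => ?_
    rw [← conj_le_iff (g := m⁻¹ * h), conj_conj (m⁻¹ * h) (m⁻¹ * h)⁻¹, mul_inv_cancel, map_one, one_smul, conj_conj]
    have hx : m⁻¹ * h * (x : G) ∈ H ∧ MulAut.conj (m⁻¹ * h * (x : G)) • zl (S : Subgroup G) P ≤ (S : Subgroup G) := by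
      refine ⟨mul_mem (mul_mem (inv_mem hm) hh) x.2.1, ?_⟩
      have h4 := (conj_le_iff (g := h)).2 (D.wc x x.2.1 x.2.2)
      have h5 := (conj_le_iff (g := m⁻¹)).2 (h4.trans h1)
      rw [conj_conj, conj_conj, conj_conj, inv_mul_cancel, map_one, one_smul] at h5
      exact h5
    exact le_iSup (fun n : {n : G // n ∈ H ∧ MulAut.conj n • zl (S : Subgroup G) P ≤ S} =>
      MulAut.conj (n : G) • zl (S : Subgroup G) P) ⟨_, hx⟩
  have h4 : MulAut.conj (m⁻¹ * h) • NS (S : Subgroup G) P H = NS (S : Subgroup G) P H := by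
    refine SetLike.coe_injective (Set.eq_of_subset_of_ncard_le h3 ?_ (Set.toFinite _))
    have h5 : Nat.card ↥(MulAut.conj (m⁻¹ * h) • NS (S : Subgroup G) P H) = Nat.card (NS (S : Subgroup G) P H) :=
      (Nat.card_congr (Subgroup.equivSMul (MulAut.conj (m⁻¹ * h)) _).toEquiv).symm
    exact h5.ge
  have h5 : MulAut.conj (m⁻¹ * n) • zl (S : Subgroup G) P ≤ NS (S : Subgroup G) P H := by
    have hx : m⁻¹ * n ∈ H ∧ MulAut.conj (m⁻¹ * n) • zl (S : Subgroup G) P ≤ (S : Subgroup G) := by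
      refine ⟨mul_mem (inv_mem hm) hn, ?_⟩
      have h5 := (conj_le_iff (g := m⁻¹)).2 h2
      rwa [conj_conj, conj_conj, inv_mul_cancel, map_one, one_smul] at h5
    exact le_iSup (fun n : {n : G // n ∈ H ∧ MulAut.conj n • zl (S : Subgroup G) P ≤ S} =>
      MulAut.conj (n : G) • zl (S : Subgroup G) P) ⟨_, hx⟩
  rw [← h4] at h5
  have h6 := (conj_le_iff (g := m)).2 (h5.trans ((conj_le_iff (g := m⁻¹ * h)).2 D.NS_le))
  rw [conj_conj, conj_conj, mul_inv_cancel_left, mul_inv_cancel_left] at h6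
  exact h6

/-- **LEMMA A** (#22083 (a)) -/
theorem lemA {X : Subgroup G} (hSX : S₀ ≤ X) (hXH : X ≤ H) {h n z : G} (hh : h ∈ X) (hn : n ∈ X)
    (hz : z ∈ MulAut.conj h • Zp)
    (hg : MulAut.conj h • zl (S : Subgroup G) P ≤ o2 (X ⊓ centralizer ({z} : Set G)))
    (hc : cm n z ∈ centralizer (NN (S : Subgroup G) P X : Set G)) :
    MulAut.conj (n * h) • zl (S : Subgroup G) P ≤
      centralizer ((MulAut.conj h • zl (S : Subgroup G) P : Subgroup G) : Set G) := by
  have : Fact (Nat.Prime 2) := ⟨Nat.prime_two⟩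
  set N := NN (S : Subgroup G) P X with hN
  have hXN : X ≤ normalizer (N : Set G) := le_normalizer_NN _ _ _
  have hNX : N ≤ X := NN_le fun x hx => by
    have h1 := (conj_le_iff (g := x)).2 (D.VS0.trans hSX)
    rwa [conj_eq_of_mem (Subgroup.le_normalizer hx)] at h1
  -- `K = C_N(z)` is normalised by `n` and by `S₀^h`
  set K := N ⊓ centralizer ({z} : Set G) with hK
  have hmemK : ∀ x, x ∈ K ↔ x ∈ N ∧ z * x = x * z := by
    intro x
    rw [hK, mem_inf, mem_centralizer_iff]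
    simp only [Set.mem_singleton_iff, forall_eq]
  have key : ∀ {m : G}, m ∈ X → cm m z ∈ centralizer (N : Set G) → m ∈ normalizer (K : Set G) := by
    intro m hm hcm
    have h1 : ∀ x ∈ K, m * x * m⁻¹ ∈ K := by
      intro x hx
      obtain ⟨hxN, hxz⟩ := (hmemK x).mp hx
      have hN' : m * x * m⁻¹ ∈ N := conj_mem_of_mem (hXN hm) hxN
      refine (hmemK _).mpr ⟨hN', ?_⟩
      -- `m x m⁻¹` commutes with `m z m⁻¹ = [m,z] z` and with `[m,z]`
      have h2 := mem_centralizer_iff.mp hcm _ hN'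
      have h3 : (m * x * m⁻¹) * (m * z * m⁻¹) = (m * z * m⁻¹) * (m * x * m⁻¹) := by
        calc (m * x * m⁻¹) * (m * z * m⁻¹) = m * (x * z) * m⁻¹ := by group
          _ = m * (z * x) * m⁻¹ := by rw [hxz]
          _ = _ := by group
      have h4 : m * z * m⁻¹ = cm m z * z := by rw [cm_def]; group
      rw [h4] at h3
      have h5 : cm m z * (z * (m * x * m⁻¹)) = cm m z * ((m * x * m⁻¹) * z) := by
        calc cm m z * (z * (m * x * m⁻¹)) = (cm m z * z) * (m * x * m⁻¹) := by group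
          _ = (m * x * m⁻¹) * (cm m z * z) := h3.symm
          _ = ((m * x * m⁻¹) * cm m z) * z := by group
          _ = (cm m z * (m * x * m⁻¹)) * z := by rw [h2]
          _ = _ := by group
      exact mul_left_cancel h5
    refine mem_normalizer_of_conj_eq ?_
    refine SetLike.coe_injective (Set.eq_of_subset_of_ncard_le ?_ ?_ (Set.toFinite _))
    · intro x hx
      have hx' : x ∈ MulAut.conj m • K := hx
      rw [mem_conj] at hx'
      have h2 := h1 _ hx'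
      have e1 : m * (m⁻¹ * x * m) * m⁻¹ = x := by group
      rw [e1] at h2
      exact h2
    · exact (Nat.card_congr (Subgroup.equivSMul (MulAut.conj m) K).toEquiv).le
  have hnK := key hn hc
  have hS0K : MulAut.conj h • S₀ ≤ normalizer (K : Set G) := by
    intro s hs
    have hsX : s ∈ X := by
      have h1 := (conj_le_iff (g := h)).2 hSX
      rw [conj_eq_of_mem (Subgroup.le_normalizer hh)] at h1
      exact h1 hs
    refine key hsX ?_
    rw [mem_conj] at hs hz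
    have h1 := D.cent _ hz _ hs
    have h2 : cm s z = 1 := by
      rw [RA.HypQ.cm_eq_one]
      calc s * z = h * ((h⁻¹ * s * h) * (h⁻¹ * z * h)) * h⁻¹ := by group
        _ = h * ((h⁻¹ * z * h) * (h⁻¹ * s * h)) * h⁻¹ := by rw [h1]
        _ = z * s := by group
    rw [h2]
    exact one_mem _
  -- `O = O₂(K)`
  set O := o2 K with hO
  have hnO : normalizer (K : Set G) ≤ normalizer (O : Set G) := Cfsg.Agent.Omega.normalizer_le_normalizer_o2' _
  have hVO : MulAut.conj h • zl (S : Subgroup G) P ≤ O := by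
    have h1 : MulAut.conj h • zl (S : Subgroup G) P ≤ N := conj_le_NN hh
    have h2 : o2 (X ⊓ centralizer ({z} : Set G)) ⊓ N ≤ O := by
      refine le_o2 ?_ ((o2_isPGroup _).to_le inf_le_left) ?_
      · exact le_inf inf_le_right (inf_le_left.trans ((o2_le _).trans inf_le_right))
      · intro k hk
        obtain ⟨hkN, hkz⟩ := mem_inf.mp hk
        have h3 := le_normalizer_o2 _ (mem_inf.mpr ⟨hNX hkN, hkz⟩ : k ∈ X ⊓ centralizer ({z} : Set G))
        rw [mem_normalizer_iff] at h3 ⊢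
        intro x
        rw [mem_inf, mem_inf, h3 x, mem_normalizer_iff.mp (hXN (hNX hkN)) x]
    exact (le_inf hg h1).trans h2
  have hVn : MulAut.conj (n * h) • zl (S : Subgroup G) P ≤ O := by
    have h1 := (conj_le_iff (g := n)).2 hVO
    rwa [conj_conj, conj_eq_of_mem (hnO hnK)] at h1
  have hVn' : MulAut.conj (n⁻¹ * h) • zl (S : Subgroup G) P ≤ O := by
    have h1 := (conj_le_iff (g := n⁻¹)).2 hVO
    rwa [conj_conj, conj_eq_of_mem (hnO (inv_mem hnK))] at h1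
  -- `O S₀^h` is a 2-group
  have hOX : O ≤ X := (o2_le _).trans (inf_le_left.trans hNX)
  have hS0X : MulAut.conj h • S₀ ≤ X := by
    have h1 := (conj_le_iff (g := h)).2 hSX
    rwa [conj_eq_of_mem (Subgroup.le_normalizer hh)] at h1
  have hp : IsPGroup 2 (MulAut.conj h • S₀ ⊔ O : Subgroup G) := by
    refine IsPGroup.to_sup_of_normal_right' ?_ (o2_isPGroup _) (hS0K.trans hnO)
    exact (S.isPGroup'.to_le D.S0S).map _
  obtain ⟨m, hm, hQ⟩ := NoFF.Main.exists_le_conj S D.SH hp (sup_le (hS0X.trans hXH) (hOX.trans hXH))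
  have hOS : O ≤ MulAut.conj m • (S : Subgroup G) := (le_sup_right : O ≤ _).trans hQ
  have hSS : MulAut.conj h • S₀ ≤ MulAut.conj m • (S : Subgroup G) :=
    (le_sup_left : MulAut.conj h • S₀ ≤ MulAut.conj h • S₀ ⊔ O).trans hQ
  have h1 := D.wc' (hXH hh) hm (mul_mem (hXH hn) (hXH hh)) hSS (hVn.trans hOS)
  have h2 := D.wc' (hXH hh) hm (mul_mem (inv_mem (hXH hn)) (hXH hh)) hSS (hVn'.trans hOS)
  have h3 := h1.trans (D.S_norm h)
  have h4 := h2.trans (D.S_norm h)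
  refine D.noff _ _ h3 ?_
  have h5 := (conj_le_iff (g := n)).2 h4
  rwa [conj_conj, conj_conj, mul_inv_cancel_left] at h5

/-- `⟨V^h, a⟩` is a 2-group -/
theorem pgroup {X : Subgroup G} (hSX : S₀ ≤ X) (hXH : X ≤ H) {h a z : G} (hh : h ∈ X) (ha : a ∈ X) (ha2 : a * a = 1)
    (hz : z ∈ MulAut.conj h • Zp)
    (hg : MulAut.conj h • zl (S : Subgroup G) P ≤ o2 (X ⊓ centralizer ({z} : Set G)))
    (hc : cm a z ∈ centralizer (NN (S : Subgroup G) P X : Set G)) :
    IsPGroup 2 (MulAut.conj h • zl (S : Subgroup G) P ⊔ zpowers a : Subgroup G) := by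
  have : Fact (Nat.Prime 2) := ⟨Nat.prime_two⟩
  have h1 := D.lemA hSX hXH hh ha hz hg hc
  have hV2 : ∀ g : G, IsPGroup 2 (MulAut.conj g • zl (S : Subgroup G) P : Subgroup G) := fun g =>
    (S.isPGroup'.to_le (D.VS0.trans D.S0S)).map _
  have h2 : IsPGroup 2 (MulAut.conj (a * h) • zl (S : Subgroup G) P ⊔ MulAut.conj h • zl (S : Subgroup G) P :
      Subgroup G) :=
    IsPGroup.to_sup_of_normal_right' (hV2 _) (hV2 _) (h1.trans (centralizer_le_normalizer _))
  have h3 : zpowers a ≤ normalizer ((MulAut.conj (a * h) • zl (S : Subgroup G) P ⊔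
      MulAut.conj h • zl (S : Subgroup G) P : Subgroup G) : Set G) := by
    rw [zpowers_le]
    refine mem_normalizer_of_conj_eq ?_
    rw [Subgroup.smul_sup, conj_conj, conj_conj, ← mul_assoc, ha2, one_mul, sup_comm]
  have h4 : IsPGroup 2 (zpowers a) := by
    intro x
    obtain ⟨k, hk⟩ := mem_zpowers_iff.mp x.2
    refine ⟨1, Subtype.ext ?_⟩
    change (x : G) ^ 2 ^ 1 = 1
    rw [← hk, pow_one, ← zpow_natCast, ← zpow_mul, mul_comm, zpow_mul]
    have : a ^ ((2 : ℕ) : ℤ) = 1 := by rw [zpow_natCast, pow_two, ha2]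
    rw [this, one_zpow]
  refine (IsPGroup.to_sup_of_normal_right' h4 h2 h3).to_le ?_
  exact sup_le ((le_sup_right : MulAut.conj h • zl (S : Subgroup G) P ≤ _).trans le_sup_right) le_sup_left

end Ov

/-- `F_X = C_Zp(X)` -/
def FX (Zp X : Subgroup G) : Subgroup G := Zp ⊓ centralizer (X : Set G)

/-- `X` is minimal over `S₀` with `V ≰ O₂(X)`. -/
structure Mn [Finite G] (S : Sylow 2 G) (P S₀ Zp H X : Subgroup G) : Prop where
  ov : Ov S P S₀ Zp H
  le : S₀ ≤ X
  leH : X ≤ H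
  ne : ¬ zl (S : Subgroup G) P ≤ o2 X
  min : ∀ Y, S₀ ≤ Y → Y ≤ X → ¬ zl (S : Subgroup G) P ≤ o2 Y → Y = X

theorem exists_mn [Finite G] {S : Sylow 2 G} {P S₀ Zp H K : Subgroup G} (D : Ov S P S₀ Zp H) (hK : S₀ ≤ K) (hKH : K ≤ H)
    (h : ¬ zl (S : Subgroup G) P ≤ o2 K) : ∃ X ≤ K, Mn S P S₀ Zp H X := by
  have hfin : Set.Finite {X : Subgroup G | S₀ ≤ X ∧ X ≤ K ∧ ¬ zl (S : Subgroup G) P ≤ o2 X} := Set.toFinite _
  obtain ⟨X, hX⟩ := hfin.exists_minimal ⟨K, hK, le_rfl, h⟩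
  refine ⟨X, hX.prop.2.1, D, hX.prop.1, hX.prop.2.1.trans hKH, hX.prop.2.2, fun Y h1 h2 h3 => ?_⟩
  exact le_antisymm h2 (hX.le_of_le ⟨h1, h2.trans hX.prop.2.1, h3⟩ h2)

namespace Mn

variable [Finite G] {S : Sylow 2 G} {P S₀ Zp H X : Subgroup G} (M : Mn S P S₀ Zp H X)
include M

theorem VX : zl (S : Subgroup G) P ≤ X := M.ov.VS0.trans M.le

theorem NX : NN (S : Subgroup G) P X ≤ X := NN_le fun x hx => by
  have h1 := (conj_le_iff (g := x)).2 M.VX
  rwa [conj_eq_of_mem (Subgroup.le_normalizer hx)] at h1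

/-- `X = ⟨V^X⟩ S₀` -/
theorem sup : NN (S : Subgroup G) P X ⊔ S₀ = X := by
  set Y := NN (S : Subgroup G) P X ⊔ S₀ with hY
  have hYX : Y ≤ X := sup_le M.NX M.le
  refine M.min Y le_sup_right hYX fun h => M.ne ?_
  have h3 : zl (S : Subgroup G) P ≤ o2 (NN (S : Subgroup G) P X) := by
    have h4 : o2 Y ⊓ NN (S : Subgroup G) P X ≤ o2 (NN (S : Subgroup G) P X) := by
      refine le_o2 inf_le_right ((o2_isPGroup _).to_le inf_le_left) ?_
      intro g hg
      have h5 := le_normalizer_o2 Y ((le_sup_left : NN (S : Subgroup G) P X ≤ Y) hg)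
      rw [mem_normalizer_iff] at h5 ⊢
      intro x
      rw [mem_inf, mem_inf, h5 x, mem_normalizer_iff.mp (Subgroup.le_normalizer hg) x]
    exact (le_inf h (le_NN _ _ _)).trans h4
  refine h3.trans (le_o2 ((o2_le _).trans M.NX) (o2_isPGroup _) ?_)
  exact (le_normalizer_NN (S : Subgroup G) P X).trans (Cfsg.Agent.Omega.normalizer_le_normalizer_o2' _)

/-- `C_Zp(⟨V^X⟩) = F_X` -/
theorem fx {z : G} (hz : z ∈ Zp) (h : z ∈ centralizer (NN (S : Subgroup G) P X : Set G)) : z ∈ FX Zp X := by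
  refine mem_inf.mpr ⟨hz, ?_⟩
  have h1 : X ≤ centralizer ({z} : Set G) := by
    rw [← M.sup]
    refine sup_le ?_ ?_
    · intro n hn
      rw [mem_centralizer_iff]
      rintro _ rfl
      exact (mem_centralizer_iff.mp h n hn).symm
    · intro s hs
      rw [mem_centralizer_iff]
      rintro _ rfl
      exact (M.ov.cent _ hz s hs).symm
  rw [mem_centralizer_iff]
  intro x hx
  exact (mem_centralizer_iff.mp (h1 hx) z rfl).symm

theorem FX_conj {x f : G} (hx : x ∈ X) (hf : f ∈ FX Zp X) : x * f * x⁻¹ = f := by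
  rw [mem_centralizer_iff.mp (mem_inf.mp hf).2 x hx, mul_inv_cancel_right]

/-- all elements of `Zp^h - F_X` are good -/
theorem good {h z : G} (hh : h ∈ X) (hz : z ∈ MulAut.conj h • Zp) (hzF : z ∉ FX Zp X) :
    MulAut.conj h • zl (S : Subgroup G) P ≤ o2 (X ⊓ centralizer ({z} : Set G)) := by
  rw [mem_conj] at hz
  set w := h⁻¹ * z * h with hw
  have e1 : h * w * h⁻¹ = z := by rw [hw]; group
  have hwF : w ∉ FX Zp X := fun h1 => hzF (by
    have h2 := M.FX_conj hh h1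
    rw [e1] at h2
    rw [h2]; exact h1)
  have h1 : S₀ ≤ X ⊓ centralizer ({w} : Set G) := by
    intro s hs
    refine mem_inf.mpr ⟨M.le hs, ?_⟩
    rw [mem_centralizer_iff]
    rintro _ rfl
    exact (M.ov.cent _ hz s hs).symm
  have h2 : zl (S : Subgroup G) P ≤ o2 (X ⊓ centralizer ({w} : Set G)) := by
    by_contra hcon
    have h3 := M.min _ h1 inf_le_left hcon
    refine hwF (mem_inf.mpr ⟨hz, ?_⟩)
    rw [mem_centralizer_iff]
    intro x hx
    have h4 : x ∈ X ⊓ centralizer ({w} : Set G) := by rw [h3]; exact hx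
    exact (mem_centralizer_iff.mp (mem_inf.mp h4).2 w rfl).symm
  have h3 := conj_le_o2 hh h2
  rwa [e1] at h3

/-- `a ∈ V`, `a² = 1`, `a ∉ O₂(X)`: an opposite conjugate -/
theorem exists_opp {a : G} (ha : a ∈ zl (S : Subgroup G) P) (hO : a ∉ o2 X) :
    ∃ x ∈ X, ¬ IsPGroup 2 (MulAut.conj x • zl (S : Subgroup G) P ⊔ zpowers a : Subgroup G) := by
  by_contra hcon
  push Not at hcon
  have haX : a ∈ X := M.VX ha
  refine hO ?_
  have h1 : zpowers a ≤ o2 X := by
    refine RA.le_o2_of_pairs (by rwa [zpowers_le]) fun g hg => ?_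
    refine (hcon g hg).to_le (sup_le le_sup_right ?_)
    refine le_trans ?_ le_sup_left
    exact conj_le_iff.2 (by rwa [zpowers_le])
  exact h1 (mem_zpowers a)

/-- **(b)** (#22083): for `a ∈ V - O₂(X)` some `V^x` with `[a, z] ∉ C(⟨V^X⟩)` for all `z ∈ Zp^x - F_X` -/
theorem opp {a : G} (ha : a ∈ zl (S : Subgroup G) P) (ha2 : a * a = 1) (hO : a ∉ o2 X) :
    ∃ x ∈ X, ∀ z ∈ MulAut.conj x • Zp, cm a z ∈ centralizer (NN (S : Subgroup G) P X : Set G) → z ∈ FX Zp X := by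
  obtain ⟨x, hx, h⟩ := M.exists_opp ha hO
  refine ⟨x, hx, fun z hz hc => ?_⟩
  by_contra hzF
  exact h (M.ov.pgroup M.le M.leH hx (M.VX ha) ha2 hz (M.good hx hz hzF) hc)

end Mn

end Cfsg.Agent.Omega.NOThreeL.NsF
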