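import Cfsg.Agent.Omega.NOThreeL.NsF.Count
import Cfsg.Agent.Omega.NOThreeL.NsF.LemA
import Cfsg.Agent.Omega.NOThreeL.RF.Lvl

/-!
# NO-3L, box R, case (A), `NsF` (#22083, helper618): (c), the count at group level

`M : NatK F S P V D 1`, `q : Nsp.Sit F S P 1`, `g` with `IsG M g`, `g ≠ 1` (not split), `X` minimal over `S₀ = LS M` with
`V ≰ O₂(X)` (`Mn S P (LS M) (Zp M) H X`), all `(Z⁺)^x ≤ S₀` (`x ∈ X`), `F_X ∩ D = 1` (GD), `V ∩ O₂(X) ≤ Z⁺` ((e)).

* `card_Zp` : `|Z⁺| = |F| |D|`;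
* `Mn.card_le` : `|K_c| |D| ≤ |F_X|` for `c ≠ 0`;
* **`Mn.FX_eq`** : `F_X = R` and `g` is onto `D` (any `g ≠ 1`, injective or not).
-/

set_option autoImplicit false
set_option linter.unusedSectionVars false
set_option linter.style.haveILetI false
set_option linter.unusedVariables false

namespace Cfsg.Agent.Omega.NOThreeL.NsF

open Subgroup Cfsg Cfsg.Agent.Omega.MinPar
open Cfsg.Agent.ZN (zc zl o2)
open Cfsg.Agent.Omega.Frame Cfsg.Agent.Omega.FrameNOFF
open Cfsg.Agent.Omega.NoFF.Basic (conj_conj mem_conj conj_le_iff conj_le_centralizer comm_symm comm_mono)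
open Cfsg.Agent.Omega.NOThreeL.RTools (cm cm_def cm_mul NN conj_mem_of_mem conj_le_NN le_NN NN_le le_normalizer_NN)
open Cfsg.Agent.Omega.FFThm (NatK ActsSL)
open Cfsg.Agent.Omega.FrameFF (cv)
open Cfsg.Agent.Omega.HOne (cv_le)
open Cfsg.Agent.Omega.IId.ThmCQ.Nsp
open Cfsg.Agent.Omega.NOThreeL.RF
open scoped Pointwise

universe u

variable {G : Type u} [Group G] [Finite G] {F : Type} [Field F] [Finite F] [CharP F 2] {S : Sylow 2 G}
  {P H X : Subgroup G} {M : NatK F (S : Subgroup G) P (zl (S : Subgroup G) P) (cv (S : Subgroup G) P) 1}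

section card

variable (q : Sit F S P 1)
include q

/-- `Z⁺ ≃ F × D` -/
noncomputable def coordE : ↥(Zp M) ≃ F × ↥(cv (S : Subgroup G) P) :=
  Equiv.ofBijective (fun z => (M.e z 0 0, ⟨eps M z, eps_mem q z.2⟩)) (by
    constructor
    · rintro ⟨z, hz⟩ ⟨w, hw⟩ h
      have h1 := congrArg Prod.fst h
      have h2 := congrArg (fun p => (p.2 : G)) h
      exact Subtype.ext (eq_of_coord q hz hw h1 h2)
    · rintro ⟨c, d, hd⟩
      obtain ⟨r, hr, hrc⟩ := exists_R (M := M) q c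
      have hrZ := R_le_Zp q hr
      have hdZ : d ∈ Zp M := D_le_Zp hd
      refine ⟨⟨r * d, mul_mem hrZ hdZ⟩, Prod.ext ?_ (Subtype.ext ?_)⟩
      · change M.e (r * d) 0 0 = c
        rw [e_add (M := M) (Zp_le hrZ) (Zp_le hdZ) 0, hrc, e_D hd 0, add_zero]
      · change eps M (r * d) = d
        rw [eps_mul q hrZ hdZ, eps_R q hr, one_mul, eps_D q hd])

theorem coordE_fst (z : ↥(Zp M)) : (coordE q z).1 = M.e z 0 0 := rfl

theorem coordE_snd (z : ↥(Zp M)) : ((coordE q z).2 : G) = eps M z := rfl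

/-- `|Z⁺| = |F| |D|` -/
theorem card_Zp : Nat.card ↥(Zp M) = Nat.card F * Nat.card ↥(cv (S : Subgroup G) P) := by
  rw [Nat.card_congr (coordE (M := M) q), Nat.card_prod]

end card

/-- `D` is abelian -/
theorem comm_D (q : Sit F S P 1) {a b : G} (ha : a ∈ cv (S : Subgroup G) P) (hb : b ∈ cv (S : Subgroup G) P) :
    a * b = b * a := by
  have ha' : a ∈ zl (S : Subgroup G) P := cv_le _ _ ha
  have hb' : b ∈ zl (S : Subgroup G) P := cv_le _ _ hb
  have h1 := sqV' q ha'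
  have h2 := sqV' q hb'
  have h3 := sqV' q (mul_mem ha' hb')
  calc a * b = (a * b)⁻¹ := (invV q (mul_mem ha' hb')).symm
    _ = b⁻¹ * a⁻¹ := mul_inv_rev _ _
    _ = b * a := by rw [invV q ha', invV q hb']

/-- `D` as an abelian group -/
abbrev cgD (q : Sit F S P 1) : CommGroup ↥(cv (S : Subgroup G) P) :=
  { (inferInstance : Group ↥(cv (S : Subgroup G) P)) with
    mul_comm := fun a b => Subtype.ext (comm_D q a.2 b.2) }

/-- `θ : F → D` -/
def thG (q : Sit F S P 1) {g : F → G} (hg : IsG M g) :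
    letI := cgD q
    F →+ Additive ↥(cv (S : Subgroup G) P) :=
  letI := cgD q
  AddMonoidHom.mk' (fun x => Additive.ofMul ⟨g x, hg.mem x⟩) fun x y => by
    rw [← ofMul_mul]
    congr 1
    exact Subtype.ext (hg.add x y)

/-- the coordinates of a subgroup `A` of `Z⁺` -/
def XA (q : Sit F S P 1) (M : NatK F (S : Subgroup G) P (zl (S : Subgroup G) P) (cv (S : Subgroup G) P) 1)
    (A : Subgroup G) :
    letI := cgD q
    AddSubgroup (F × Additive ↥(cv (S : Subgroup G) P)) :=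
  letI := cgD q
  { carrier := {p | ∃ z ∈ A ⊓ Zp M, M.e z 0 0 = p.1 ∧ eps M z = ((Additive.toMul p.2 : ↥(cv (S : Subgroup G) P)) : G)}
    add_mem' := by
      rintro ⟨s, d⟩ ⟨s', d'⟩ ⟨z, hz, h1, h2⟩ ⟨z', hz', h1', h2'⟩
      refine ⟨z * z', mul_mem hz hz', ?_, ?_⟩
      · rw [e_add (M := M) (Zp_le hz.2) (Zp_le hz'.2) 0, h1, h1']
        rfl
      · rw [eps_mul q hz.2 hz'.2, h2, h2']
        rfl
    zero_mem' := by
      refine ⟨1, one_mem _, ?_, ?_⟩
      · rw [IId.Cv.e_one M]; rfl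
      · rw [eps_one q]; rfl
    neg_mem' := by
      rintro ⟨s, d⟩ ⟨z, hz, h1, h2⟩
      refine ⟨z⁻¹, inv_mem hz, ?_, ?_⟩
      · rw [e_inv' (M := M) (Zp_le hz.2) 0, h1]
        change s = -s
        exact (CharTwo.neg_eq s).symm
      · have h3 : z⁻¹ = z := invV q (Zp_le hz.2)
        rw [h3, h2]
        change ((Additive.toMul d : ↥(cv (S : Subgroup G) P)) : G) = (((Additive.toMul d)⁻¹ : ↥(cv (S : Subgroup G) P)) : G)
        rw [Subgroup.coe_inv, invV q (cv_le _ _ (Additive.toMul d).2)] }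

theorem mem_XA (q : Sit F S P 1) {A : Subgroup G} {s : F} {d : G} (hd : d ∈ cv (S : Subgroup G) P) :
    letI := cgD q
    (s, Additive.ofMul (⟨d, hd⟩ : ↥(cv (S : Subgroup G) P))) ∈ XA q M A ↔
      ∃ z ∈ A ⊓ Zp M, M.e z 0 0 = s ∧ eps M z = d := Iff.rfl

theorem card_XA (q : Sit F S P 1) (A : Subgroup G) (hA : A ≤ Zp M) :
    letI := cgD q
    Nat.card ↥(XA q M A) = Nat.card ↥A := by
  letI := cgD q
  refine (Nat.card_congr (Equiv.ofBijective (fun z : ↥A => (⟨(M.e z 0 0, Additive.ofMul ⟨eps M z, eps_mem q (hA z.2)⟩),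
    ⟨z, ⟨z.2, hA z.2⟩, rfl, rfl⟩⟩ : ↥(XA q M A))) ⟨?_, ?_⟩)).symm
  · rintro ⟨z, hz⟩ ⟨w, hw⟩ h
    have h0 := congrArg Subtype.val h
    have h1 := congrArg Prod.fst h0
    have h2 := congrArg (fun p => ((Additive.toMul p.2 : ↥(cv (S : Subgroup G) P)) : G)) h0
    exact Subtype.ext (eq_of_coord q (hA hz) (hA hw) h1 h2)
  · rintro ⟨⟨s, d⟩, z, hz, h1, h2⟩
    refine ⟨⟨z, hz.1⟩, Subtype.ext (Prod.ext h1 ?_)⟩
    exact congrArg Additive.ofMul (Subtype.ext h2)

section main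

variable {g : F → G}

/-- `|K_c| |D| ≤ |F_X|` -/
theorem Mn.card_le (N : Mn S P (LS M) (Zp M) H X) (q : Sit F S P 1) (hg : IsG M g)
    (hZ : ∀ x ∈ X, MulAut.conj x • Zp M ≤ LS M)
    (hO : ∀ v ∈ zl (S : Subgroup G) P, v ∈ o2 X → v ∈ Zp M) {c : F} (hc : c ≠ 0) :
    letI := cgD q
    Nat.card ↥(Kc (thG q hg) (XA q M (FX (Zp M) X)) c) * Nat.card ↥(cv (S : Subgroup G) P) ≤
      Nat.card ↥(FX (Zp M) X) := by
  letI := cgD q
  set K := Kc (thG q hg) (XA q M (FX (Zp M) X)) c with hK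
  -- `v` with coordinate `c`
  obtain ⟨v, hv, hvc⟩ : ∃ v ∈ zl (S : Subgroup G) P, M.e v 0 1 = c := by
    obtain ⟨v, hv, h⟩ := M.surj fun _ => ![0, c]
    exact ⟨v, hv, by rw [h]; rfl⟩
  have hvO : v ∉ o2 X := fun h => hc (by rw [← hvc]; exact (hO v hv h).2)
  obtain ⟨x, hx, hopp⟩ := N.opp hv (sqV' q hv) hvO
  set A := MulAut.conj x • Zp M with hA
  have hAL : A ≤ LS M := hZ x hx
  -- `β : A → F`
  let ψ : ↥A →* Multiplicative F := MonoidHom.mk' (fun z => Multiplicative.ofAdd (bet M z)) fun z w => by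
    change Multiplicative.ofAdd (bet M (z * w : G)) = _
    rw [bet_mul q (hAL z.2) (hAL w.2), ofAdd_add]
  let B : Subgroup ↥A := (AddSubgroup.toSubgroup K).comap ψ
  have hB : ∀ z : ↥A, z ∈ B → (z : G) ∈ FX (Zp M) X := by
    intro z hz
    have h1 : bet M (z : G) ∈ K := hz
    have h2 : (c * bet M (z : G), thG q hg (c ^ 2 * bet M (z : G))) ∈ XA q M (FX (Zp M) X) := h1
    obtain ⟨w, hw, hw1, hw2⟩ := h2
    obtain ⟨h3, h4⟩ := e_cm q hv (hAL z.2)
    have h5 : cm v z = w := by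
      refine eq_of_coord q h3 hw.2 ?_ ?_
      · rw [h4, hvc, hw1]
      · rw [hg.br v hv z (hAL z.2), hvc, hw2]
        rfl
    refine hopp z z.2 ?_
    rw [h5]
    exact centralizer_le N.NX (mem_inf.mp hw.1).2
  have hBc : Nat.card ↥B ≤ Nat.card ↥(FX (Zp M) X) :=
    Nat.card_le_card_of_injective (fun z : ↥B => (⟨z.1, hB z.1 z.2⟩ : ↥(FX (Zp M) X))) fun z w h => by
      have h1 := congrArg Subtype.val h
      exact Subtype.ext (Subtype.ext h1)
  have hidx : B.index * Nat.card ↥K ≤ Nat.card F := by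
    have h1 : B.index ≤ (AddSubgroup.toSubgroup K).index := by
      rw [Subgroup.index_comap]
      exact Nat.le_of_dvd (Nat.pos_of_ne_zero Subgroup.index_ne_zero_of_finite) (Subgroup.relIndex_dvd_index_of_normal _ _)
    have h2 : Nat.card ↥(AddSubgroup.toSubgroup K) * (AddSubgroup.toSubgroup K).index = Nat.card (Multiplicative F) :=
      Subgroup.card_mul_index _
    have h3 : Nat.card ↥(AddSubgroup.toSubgroup K) = Nat.card ↥K := rfl
    have h4 : Nat.card (Multiplicative F) = Nat.card F := rfl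
    rw [h3, h4] at h2
    rw [← h2, mul_comm]
    exact Nat.mul_le_mul_left _ h1
  have hAc : Nat.card ↥A = Nat.card F * Nat.card ↥(cv (S : Subgroup G) P) := by
    rw [← card_Zp (M := M) q]
    exact (Nat.card_congr (Subgroup.equivSMul (MulAut.conj x) _).toEquiv).symm
  have h1 : Nat.card ↥B * B.index = Nat.card ↥A := Subgroup.card_mul_index _
  have h2 : 0 < Nat.card F := Nat.card_pos
  refine Nat.le_of_mul_le_mul_left (c := Nat.card F) ?_ h2
  calc Nat.card F * (Nat.card ↥K * Nat.card ↥(cv (S : Subgroup G) P))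
      = Nat.card ↥A * Nat.card ↥K := by rw [hAc]; ring
    _ = Nat.card ↥B * (B.index * Nat.card ↥K) := by rw [← h1]; ring
    _ ≤ Nat.card ↥(FX (Zp M) X) * Nat.card F := Nat.mul_le_mul hBc hidx
    _ = _ := mul_comm _ _

/-- **(c)** (#22083): `F_X = R` and `g` is onto `D`. -/
theorem Mn.FX_eq (N : Mn S P (LS M) (Zp M) H X) (q : Sit F S P 1) (hg : IsG M g) (hg1 : ∃ x, g x ≠ 1)
    (hZ : ∀ x ∈ X, MulAut.conj x • Zp M ≤ LS M) (hD : ∀ d ∈ cv (S : Subgroup G) P, d ∈ centralizer (X : Set G) → d = 1)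
    (hO : ∀ v ∈ zl (S : Subgroup G) P, v ∈ o2 X → v ∈ Zp M) :
    FX (Zp M) X = Rt M ∧ ∀ d ∈ cv (S : Subgroup G) P, ∃ x, g x = d := by
  letI := cgD q
  have hFZ : FX (Zp M) X ≤ Zp M := inf_le_left
  have h1 : thG q hg ≠ 0 := by
    obtain ⟨x, hx⟩ := hg1
    intro h
    refine hx ?_
    have h2 := congrArg (fun f => ((Additive.toMul (f x) : ↥(cv (S : Subgroup G) P)) : G)) h
    exact h2
  have h2 : ∀ d, ((0 : F), d) ∈ XA q M (FX (Zp M) X) → d = 0 := by
    rintro d ⟨z, hz, h3, h4⟩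
    have h3' : M.e z 0 0 = 0 := h3
    have hzD : z ∈ cv (S : Subgroup G) P := (mem_D (M := M) (Zp_le hz.2)).2 ⟨h3', hz.2.2⟩
    have hz1 : z = 1 := hD z hzD (mem_inf.mp hz.1).2
    rw [hz1, eps_one q] at h4
    exact congrArg Additive.ofMul (Subtype.ext h4.symm)
  have hcard : Nat.card (Additive ↥(cv (S : Subgroup G) P)) = Nat.card ↥(cv (S : Subgroup G) P) := rfl
  obtain ⟨h3, h4⟩ := count (X := XA q M (FX (Zp M) X)) h1 h2 fun c hc => by
    rw [card_XA q _ hFZ, hcard]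
    exact N.card_le q hg hZ hO hc
  constructor
  · apply le_antisymm
    · intro z hz
      have hzZ := hFZ hz
      have h5 : (M.e z 0 0, Additive.ofMul (⟨eps M z, eps_mem q hzZ⟩ : ↥(cv (S : Subgroup G) P))) ∈
          XA q M (FX (Zp M) X) := ⟨z, ⟨hz, hzZ⟩, rfl, rfl⟩
      have h6 := (h3 _).1 h5
      rw [← eps_eq_one q hzZ]
      exact congrArg Subtype.val (congrArg Additive.toMul h6)
    · intro z hz
      have hzZ : z ∈ Zp M := R_le_Zp q hz
      obtain ⟨w, hw, hw1, hw2⟩ := (h3 (M.e z 0 0, 0)).2 rfl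
      have h5 : w = z := by
        refine eq_of_coord q hw.2 hzZ hw1 ?_
        rw [hw2, eps_R q hz]
        rfl
      rw [← h5]
      exact hw.1
  · intro d hd
    obtain ⟨x, hx⟩ := h4 (Additive.ofMul ⟨d, hd⟩)
    exact ⟨x, congrArg Subtype.val (congrArg Additive.toMul hx)⟩

end main

end Cfsg.Agent.Omega.NOThreeL.NsF
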