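import Cfsg.Agent.Omega.NOThreeL.NsF.CountG
import Cfsg.Agent.Omega.NOThreeL.RF.MinX

/-!
# NO-3L, box R, case (A), `NsF` (#22083, helper618): (c), the count, over `RF.Wc` and `RF.MinX` (helper837)

* `mn_of` : `Wc` and `MinX` give `Mn`;
* **`FX_eq_of`** : `X` minimal over `S₀ = LS M`, `V ∩ O₂(X) ≤ Z⁺`, `D ∩ C(X) = 1`, `g ≠ 1` imply `C_{Z⁺}(X) = R` and
  `g(F) = D`.
-/

set_option autoImplicit false
set_option linter.unusedSectionVars false

namespace Cfsg.Agent.Omega.NOThreeL.NsF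

open Subgroup Cfsg Cfsg.Agent.Omega.MinPar
open Cfsg.Agent.ZN (zc zl o2)
open Cfsg.Agent.Omega.Frame Cfsg.Agent.Omega.FrameNOFF
open Cfsg.Agent.Omega.NoFF.Basic (conj_conj mem_conj conj_le_iff conj_le_centralizer comm_symm comm_mono)
open Cfsg.Agent.Omega.NOThreeL.Pair (conj_eq_of_mem)
open Cfsg.Agent.Omega.FFThm (NatK ActsSL)
open Cfsg.Agent.Omega.FrameFF (cv)
open Cfsg.Agent.Omega.IId.ThmCQ.Nsp
open Cfsg.Agent.Omega.NOThreeL.RF
open scoped Pointwise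

universe u

variable {G : Type u} [Group G] [Finite G] {S : Sylow 2 G} {P U H X : Subgroup G}

theorem ov_of {S₀ Zp : Subgroup G} (W : Wc S (zl (S : Subgroup G) P) U H S₀ Zp) : Ov S P S₀ Zp H where
  SH := W.SH
  S0S := W.S0S
  VS0 := W.VS0
  ZpV := W.ZpV
  cent := fun _ hz _ hs => W.S0_comm hs hz
  wc := fun _ hn h => W.le_S0 hn h
  noff := fun g h h1 h2 a ha => by
    rw [mem_centralizer_iff]
    intro b hb
    exact (W.noff g h h1 h2 a ha b hb).symm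

theorem mn_of {S₀ Zp : Subgroup G} (W : Wc S (zl (S : Subgroup G) P) U H S₀ Zp) (hX : MinX (zl (S : Subgroup G) P) H S₀ X) :
    Mn S P S₀ Zp H X where
  ov := ov_of W
  le := hX.le
  leH := hX.XH
  ne := hX.not
  min := fun Y h1 h2 h3 => by
    by_contra h4
    exact h3 (hX.min Y h1 h2 h4)

/-- **(c)** (#22083) -/
theorem FX_eq_of {F : Type} [Field F] [Finite F] [CharP F 2]
    {M : NatK F (S : Subgroup G) P (zl (S : Subgroup G) P) (cv (S : Subgroup G) P) 1} (q : Sit F S P 1) {g : F → G}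
    (hg : IsG M g) (W : Wc S (zl (S : Subgroup G) P) U H (LS M) (Zp M)) (hUL : U ≤ LS M)
    (hX : MinX (zl (S : Subgroup G) P) H (LS M) X) (hO : zl (S : Subgroup G) P ⊓ o2 X ≤ Zp M)
    (hD : cv (S : Subgroup G) P ⊓ centralizer (X : Set G) = ⊥) (hg1 : ∃ x, g x ≠ 1) :
    Zp M ⊓ centralizer (X : Set G) = Rt M ∧ ∀ d ∈ cv (S : Subgroup G) P, ∃ x, g x = d := by
  refine (mn_of W hX).FX_eq q hg hg1 (fun x hx => ?_) (fun d hd h => ?_) fun v hv hv' => hO (mem_inf.mpr ⟨hv, hv'⟩)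
  · have h1 := (conj_le_iff (g := x)).2 (W.ZpU.trans le_rfl)
    rw [conj_eq_of_mem (W.HU (hX.XH hx))] at h1
    exact h1.trans hUL
  · exact mem_bot.mp (hD ▸ mem_inf.mpr ⟨hd, h⟩)

end Cfsg.Agent.Omega.NOThreeL.NsF
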