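import Cfsg.Agent.Omega.NO3S.Fit.AbsNat

/-!
# NsF, F3: groups with cyclic Sylow 2-subgroups acting on `Y = R ⊕ D`; the case `|Y| ≤ 16`

* `comm_of_le_sixteen`: `K` normal of odd order in `A`, `A` of even order and faithful on an elementary abelian
  2-group of order at most 16: `K` is commutative;
* `exists_complement`: a group with cyclic Sylow 2-subgroup has a normal 2-complement containing all subgroups of odd
  order.
-/

set_option autoImplicit false
set_option linter.unusedSectionVars false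

namespace Cfsg.Agent.Omega.NOThreeL.NsF.NormD

open Subgroup Cfsg.Agent.Omega.NO3S.Fit.Abs

section Count

variable {A Y : Type*} [Group A] [Finite A] [AddCommGroup Y] [Finite Y] [DistribMulAction A Y]

/-- an element of prime order on an invariant subgroup -/
theorem modEq {p : ℕ} [hp : Fact p.Prime] {x : A} (hx : x ^ p = 1) {N : AddSubgroup Y}
    (hN : ∀ m ∈ N, x • m ∈ N) :
    Nat.card N ≡ Nat.card (N ⊓ fx Y x : AddSubgroup Y) [MOD p] := by
  classical
  have := Fintype.ofFinite N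
  let f : Function.End N := fun m => ⟨x • (m : Y), hN m m.2⟩
  have hf : ∀ (k : ℕ) (m : N), ((f ^ k) m : Y) = x ^ k • (m : Y) := by
    intro k
    induction k with
    | zero => intro m; rw [pow_zero, pow_zero, one_smul]; rfl
    | succ k ih =>
      intro m
      rw [pow_succ, pow_succ, mul_smul]
      exact ih (f m)
  have hfp : f ^ p ^ 1 = 1 := by
    funext m
    apply Subtype.ext
    rw [hf, pow_one, hx, one_smul]
    rfl
  have h := Equiv.Perm.card_fixedPoints_modEq (p := p) (n := 1) hfp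
  rw [← Nat.card_eq_fintype_card, ← Nat.card_eq_fintype_card] at h
  have key : Nat.card (Function.fixedPoints f) = Nat.card (N ⊓ fx Y x : AddSubgroup Y) := Nat.card_congr
    { toFun := fun m => ⟨((m : N) : Y), (m : N).2, congrArg Subtype.val (m.2 : f (m : N) = (m : N))⟩
      invFun := fun m => ⟨⟨(m : Y), m.2.1⟩, Subtype.ext (m.2.2 : x • (m : Y) = (m : Y))⟩
      left_inv := fun m => rfl
      right_inv := fun m => rfl }
  rw [← key]
  exact h

theorem card_br_mul_fx (x : A) : Nat.card (br Y x) * Nat.card (fx Y x) = Nat.card Y := by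
  let f : Y →+ Y :=
    { toFun := fun m => x • m - m
      map_zero' := by simp
      map_add' := fun m n => by rw [smul_add]; abel }
  have h1 : f.range = br Y x := by
    ext m
    rfl
  have h2 : f.ker = fx Y x := by
    ext m
    exact sub_eq_zero
  have h3 : Nat.card f.ker * Nat.card f.range = Nat.card Y := by
    rw [← AddSubgroup.index_ker, AddSubgroup.card_mul_index]
  rw [h1, h2] at h3
  rw [mul_comm]
  exact h3

variable [FaithfulSMul A Y]

/-- an element of order 7 on a group of order at most 16 -/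
theorem card_br_seven (two : ∀ m : Y, m + m = 0) (h16 : Nat.card Y ≤ 16) {x : A}
    (hx : orderOf x = 7) : Nat.card (br Y x) = 8 ∧ Nat.card (fx Y x) ≤ 2 := by
  have : Fact (Nat.Prime 7) := ⟨by decide⟩
  have hx7 : x ^ 7 = 1 := by rw [← hx]; exact pow_orderOf_eq_one x
  have hx1 : x ≠ 1 := by
    rintro rfl
    rw [orderOf_one] at hx
    omega
  obtain ⟨a, ha⟩ := exists_card_two_pow two (br Y x)
  obtain ⟨b, hb⟩ := exists_card_two_pow two (fx Y x)
  have h1 := card_br_mul_fx (Y := Y) x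
  have h2 : Nat.card (⊤ : AddSubgroup Y) ≡ Nat.card ((⊤ : AddSubgroup Y) ⊓ fx Y x : AddSubgroup Y)
    [MOD 7] := modEq hx7 fun m _ => AddSubgroup.mem_top _
  rw [top_inf_eq, AddSubgroup.card_top, ← h1, ha, hb] at h2
  rw [ha, hb] at h1
  have ha0 : a ≠ 0 := by
    rintro rfl
    rw [pow_zero, AddSubgroup.card_eq_one] at ha
    exact ne_zero_of_br hx1 ha
  rw [← pow_add] at h1 h2
  have hab : a + b ≤ 4 := by
    by_contra hcon
    have : 2 ^ 5 ≤ 2 ^ (a + b) := Nat.pow_le_pow_right (by decide) (by omega)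
    omega
  rw [ha, hb]
  have ha4 : a ≤ 4 := by omega
  have hb4 : b ≤ 4 := by omega
  clear ha hb h1
  revert h2 hab ha0
  unfold Nat.ModEq
  interval_cases a <;> interval_cases b <;> decide

/-- an involution normalising a group of order 7 -/
theorem not_seven (two : ∀ m : Y, m + m = 0) (h16 : Nat.card Y ≤ 16) {x s : A}
    (hx : orderOf x = 7) (hs : orderOf s = 2) (hsx : s * x * s⁻¹ ∈ zpowers x) : False := by
  have : Fact (Nat.Prime 7) := ⟨by decide⟩
  have : Fact (Nat.Prime 2) := ⟨by decide⟩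
  obtain ⟨h8, hf2⟩ := card_br_seven two h16 hx
  have hx7 : x ^ 7 = 1 := by rw [← hx]; exact pow_orderOf_eq_one x
  have hs2 : s ^ 2 = 1 := by rw [← hs]; exact pow_orderOf_eq_one s
  have hss : s * s = 1 := by rw [← pow_two]; exact hs2
  have hsi : s⁻¹ = s := inv_eq_of_mul_eq_one_left hss
  have hodd : Odd (orderOf x) := by rw [hx]; decide
  have hs1 : s ≠ 1 := by
    rintro rfl
    rw [orderOf_one] at hs
    omega
  -- the exponent
  obtain ⟨k, hk7, hk⟩ : ∃ k < 7, x ^ k = s * x * s⁻¹ := by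
    obtain ⟨k, hk⟩ := (mem_powers_iff_mem_zpowers.mpr hsx)
    refine ⟨k % 7, Nat.mod_lt _ (by decide), ?_⟩
    rw [← hk, ← hx]
    exact pow_mod_orderOf x k
  have hkk : x ^ (k * k) = x := by
    have h1 : (s * x * s⁻¹) ^ k = s * x ^ k * s⁻¹ := by
      rw [conj_pow]
    rw [pow_mul, hk, h1, hk, hsi]
    calc s * (s * x * s) * s = (s * s) * x * (s * s) := by group
      _ = x := by rw [hss]; group
  have hmod : k * k ≡ 1 [MOD 7] := by
    rw [← hx, ← pow_eq_pow_iff_modEq, pow_one]
    exact hkk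
  have hk16 : k = 1 ∨ k = 6 := by
    unfold Nat.ModEq at hmod
    clear hk hkk
    revert hmod
    interval_cases k <;> decide
  rcases hk16 with rfl | rfl
  · -- commuting
    have hcomm : s * x = x * s := by
      rw [pow_one] at hk
      have := congrArg (· * s) hk
      simp only [inv_mul_cancel_right] at this
      exact this.symm
    have hB1 : ∀ m ∈ br Y x, s • m ∈ br Y x := fun m hm => smul_mem_br_of_comm hcomm hm
    have hB2 : ∀ m ∈ (br Y x ⊓ fx Y s : AddSubgroup Y), x • m ∈ (br Y x ⊓ fx Y s : AddSubgroup Y) :=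
      fun m hm => ⟨smul_mem_br_self hm.1, smul_mem_fx_of_comm hcomm.symm hm.2⟩
    have e1 := modEq hs2 hB1
    have e2 := modEq hx7 hB2
    have e3 : ((br Y x ⊓ fx Y s : AddSubgroup Y) ⊓ fx Y x : AddSubgroup Y) = ⊥ := by
      rw [eq_bot_iff]
      rintro m ⟨⟨h1, _⟩, h2⟩
      exact br_inf_fx two hodd h1 h2
    rw [e3, AddSubgroup.card_bot] at e2
    rw [h8] at e1
    have e4 : Nat.card (br Y x ⊓ fx Y s : AddSubgroup Y) ≤ 8 := by
      rw [← h8]
      exact AddSubgroup.card_le_of_le inf_le_left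
    have e5 : Nat.card (br Y x ⊓ fx Y s : AddSubgroup Y) = 8 := by
      unfold Nat.ModEq at e1 e2
      have := Nat.card_pos (α := (br Y x ⊓ fx Y s : AddSubgroup Y))
      omega
    have e6 : br Y x ⊓ fx Y s = br Y x :=
      AddSubgroup.eq_of_le_of_card_ge inf_le_left (by rw [e5, h8])
    have hfx : ∀ m ∈ fx Y x, s • m ∈ fx Y x := fun m hm => smul_mem_fx_of_comm hcomm hm
    have e7 := modEq hs2 hfx
    have e8 : fx Y x ⊓ fx Y s = fx Y x := by
      refine AddSubgroup.eq_of_le_of_card_ge inf_le_left ?_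
      have h1 := Nat.card_pos (α := (fx Y x ⊓ fx Y s : AddSubgroup Y))
      have h2 := Nat.card_pos (α := fx Y x)
      unfold Nat.ModEq at e7
      omega
    apply hs1
    refine FaithfulSMul.eq_of_smul_eq_smul (α := Y) fun m => ?_
    rw [one_smul]
    obtain ⟨d, hd, c, hc, rfl⟩ := exists_decomp two hodd m
    have hd' : d ∈ br Y x ⊓ fx Y s := by rw [e6]; exact hd
    have hc' : c ∈ fx Y x ⊓ fx Y s := by rw [e8]; exact hc
    rw [smul_add, hd'.2, hc'.2]
  · -- inverted
    have hi : s * x * s⁻¹ = x⁻¹ := by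
      rw [← hk]
      refine eq_inv_of_mul_eq_one_left ?_
      rw [← pow_succ]
      exact hx7
    have h1 := (card_br_eq (M := Y) two hss hodd hi).1
    rw [h8] at h1
    have h2 : Nat.card (cx Y s x) < 3 := by nlinarith
    interval_cases Nat.card (cx Y s x) <;> omega

end Count

/-! ### Groups of order dividing 45 -/

section FortyFive

variable {K : Type*} [Group K] [Finite K]

theorem comm_of_isPGroup_card {P : Type*} [Group P] [Finite P] {p : ℕ} [hp : Fact p.Prime]
    (h : Nat.card P ∣ p ^ 2) : ∀ a b : P, a * b = b * a := by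
  obtain ⟨k, hk, hk2⟩ := (Nat.dvd_prime_pow hp.out).mp h
  intro a b
  interval_cases k
  · rw [pow_zero] at hk2
    have := (Nat.card_eq_one_iff_unique.mp hk2).1
    exact Subsingleton.elim _ _
  · rw [pow_one] at hk2
    have := isCyclic_of_prime_card hk2
    obtain ⟨g, hg⟩ := IsCyclic.exists_generator (α := P)
    obtain ⟨i, rfl⟩ := mem_zpowers_iff.mp (hg a)
    obtain ⟨j, rfl⟩ := mem_zpowers_iff.mp (hg b)
    rw [← zpow_add, ← zpow_add, add_comm]
  · exact (IsPGroup.isMulCommutative_of_card_eq_prime_sq hk2).is_comm.comm a b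

theorem comm_of_card_dvd (h : Nat.card K ∣ 45) : ∀ a b : K, a * b = b * a := by
  have f3 : Fact (Nat.Prime 3) := ⟨by decide⟩
  have f5 : Fact (Nat.Prime 5) := ⟨by decide⟩
  obtain ⟨P⟩ : Nonempty (Sylow 3 K) := inferInstance
  obtain ⟨Q⟩ : Nonempty (Sylow 5 K) := inferInstance
  have hP : Nat.card P ∣ 9 := by
    have h1 : Nat.card P ∣ 45 := (card_subgroup_dvd_card (P : Subgroup K)).trans h
    obtain ⟨k, hk⟩ := IsPGroup.iff_card.mp P.isPGroup'
    rw [hk] at h1 ⊢
    have h2 : Nat.Coprime (3 ^ k) 5 := Nat.Coprime.pow_left k (by decide)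
    exact h2.dvd_of_dvd_mul_right (show 3 ^ k ∣ 9 * 5 from h1)
  have hQ : Nat.card Q ∣ 5 := by
    have h1 : Nat.card Q ∣ 45 := (card_subgroup_dvd_card (Q : Subgroup K)).trans h
    obtain ⟨k, hk⟩ := IsPGroup.iff_card.mp Q.isPGroup'
    rw [hk] at h1 ⊢
    have h2 : Nat.Coprime (5 ^ k) 9 := Nat.Coprime.pow_left k (by decide)
    exact h2.dvd_of_dvd_mul_left (show 5 ^ k ∣ 9 * 5 from h1)
  have hPi : (P : Subgroup K).index ∣ 5 := by
    have h1 : (P : Subgroup K).index ∣ 45 := (index_dvd_card (P : Subgroup K)).trans h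
    have h2 : Nat.Coprime (P : Subgroup K).index 9 := by
      have := (Nat.Prime.coprime_iff_not_dvd f3.out).mpr P.not_dvd_index
      exact (Nat.Coprime.pow_left 2 this).symm
    exact h2.dvd_of_dvd_mul_left (show (P : Subgroup K).index ∣ 9 * 5 from h1)
  have hQi : (Q : Subgroup K).index ∣ 9 := by
    have h1 : (Q : Subgroup K).index ∣ 45 := (index_dvd_card (Q : Subgroup K)).trans h
    have h2 : Nat.Coprime (Q : Subgroup K).index 5 :=
      ((Nat.Prime.coprime_iff_not_dvd f5.out).mpr Q.not_dvd_index).symm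
    exact h2.dvd_of_dvd_mul_right (show (Q : Subgroup K).index ∣ 9 * 5 from h1)
  have nP : Nat.card (Sylow 3 K) = 1 := by
    have h1 : Nat.card (Sylow 3 K) ∣ 5 := P.card_dvd_index.trans hPi
    have h2 := card_sylow_modEq_one 3 K
    rcases (Nat.dvd_prime f5.out).mp h1 with h | h
    · exact h
    · rw [h] at h2
      exact absurd h2 (by decide)
  have nQ : Nat.card (Sylow 5 K) = 1 := by
    have h1 : Nat.card (Sylow 5 K) ∣ 9 := Q.card_dvd_index.trans hQi
    have h2 := card_sylow_modEq_one 5 K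
    have h3 : Nat.card (Sylow 5 K) ≤ 9 := Nat.le_of_dvd (by decide) h1
    unfold Nat.ModEq at h2
    interval_cases Nat.card (Sylow 5 K) <;> simp_all
  have sP : Subsingleton (Sylow 3 K) := (Nat.card_eq_one_iff_unique.mp nP).1
  have sQ : Subsingleton (Sylow 5 K) := (Nat.card_eq_one_iff_unique.mp nQ).1
  have cP : (P : Subgroup K).Normal := P.normal_of_subsingleton
  have cQ : (Q : Subgroup K).Normal := Q.normal_of_subsingleton
  have hcop : Nat.Coprime (Nat.card P) (Nat.card Q) :=
    Nat.Coprime.of_dvd hP hQ (by decide)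
  have hdis : Disjoint (P : Subgroup K) (Q : Subgroup K) := by
    exact disjoint_of_coprime_natCard hcop
  have htop : (P : Subgroup K) ⊔ (Q : Subgroup K) = ⊤ := by
    rw [← index_eq_one, ← Nat.dvd_one]
    have h1 : ((P : Subgroup K) ⊔ (Q : Subgroup K)).index ∣ 5 :=
      (index_dvd_of_le le_sup_left).trans hPi
    have h2 : ((P : Subgroup K) ⊔ (Q : Subgroup K)).index ∣ 9 :=
      (index_dvd_of_le le_sup_right).trans hQi
    exact Nat.dvd_gcd h1 h2
  have cPQ : ∀ a ∈ (P : Subgroup K), ∀ b ∈ (Q : Subgroup K), a * b = b * a := fun a ha b hb =>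
    commute_of_normal_of_disjoint _ _ cP cQ hdis a b ha hb
  have cPP : ∀ a ∈ (P : Subgroup K), ∀ b ∈ (P : Subgroup K), a * b = b * a := fun a ha b hb =>
    congrArg Subtype.val (comm_of_isPGroup_card (p := 3) (P := P) hP ⟨a, ha⟩ ⟨b, hb⟩)
  have cQQ : ∀ a ∈ (Q : Subgroup K), ∀ b ∈ (Q : Subgroup K), a * b = b * a := fun a ha b hb =>
    congrArg Subtype.val (comm_of_isPGroup_card (p := 5) (P := Q) (hQ.trans (by decide)) ⟨a, ha⟩ ⟨b, hb⟩)
  intro a b
  have ha : a ∈ (P : Subgroup K) ⊔ (Q : Subgroup K) := htop ▸ mem_top a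
  have hb : b ∈ (P : Subgroup K) ⊔ (Q : Subgroup K) := htop ▸ mem_top b
  rw [← SetLike.mem_coe, mul_normal, Set.mem_mul] at ha hb
  obtain ⟨a1, ha1, a2, ha2, rfl⟩ := ha
  obtain ⟨b1, hb1, b2, hb2, rfl⟩ := hb
  have ha1' : a1 ∈ (P : Subgroup K) := ha1
  have ha2' : a2 ∈ (Q : Subgroup K) := ha2
  have hb1' : b1 ∈ (P : Subgroup K) := hb1
  have hb2' : b2 ∈ (Q : Subgroup K) := hb2
  calc a1 * a2 * (b1 * b2) = a1 * (a2 * b1) * b2 := by group
    _ = a1 * b1 * (a2 * b2) := by rw [← cPQ b1 hb1' a2 ha2']; group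
    _ = b1 * a1 * (b2 * a2) := by rw [cPP a1 ha1' b1 hb1', cQQ a2 ha2' b2 hb2']
    _ = b1 * (a1 * b2) * a2 := by group
    _ = b1 * b2 * (a1 * a2) := by rw [cPQ a1 ha1' b2 hb2']; group

end FortyFive

end Cfsg.Agent.Omega.NOThreeL.NsF.NormD
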