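import Mathlib

/-!
# LEMMA SINGER, elementary version (helper901, #22537)

`L` a finite group of odd order acting on the elementary abelian 2-group `W = R ⊕ D`, `T ≤ L` trivial on `D`,
transitive (and semiregular) on `R#`, `|D| ≤ |R|`, `|R| ≥ 8`. Then `L` normalises `R` and `D`. No solubility.
-/

set_option autoImplicit false
set_option linter.unusedSectionVars false
set_option linter.style.haveILetI false
set_option linter.unusedTactic false
set_option linter.unreachableTactic false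

namespace Cfsg.Agent.Omega.NOThreeL.NsF.SingerOdd

open Subgroup

universe u v

variable {K : Type u} {Y : Type v} [Group K] [Finite K] [AddCommGroup Y] [Finite Y] [DistribMulAction K Y]

/-! ### Averaging -/

/-- The sum over a subgroup. -/
noncomputable def avg (M : Subgroup K) : Y →+ Y :=
  haveI := Fintype.ofFinite M
  { toFun := fun w => ∑ g : M, (g : K) • w
    map_zero' := by simp
    map_add' := fun a b => by simp [smul_add, Finset.sum_add_distrib] }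

theorem avg_apply (M : Subgroup K) [Fintype M] (w : Y) : avg M w = ∑ g : M, (g : K) • w := by
  unfold avg
  simp only [AddMonoidHom.coe_mk, ZeroHom.coe_mk]
  congr!

theorem smul_avg {M : Subgroup K} {m : K} (hm : m ∈ M) (w : Y) : m • avg M w = avg M w := by
  haveI := Fintype.ofFinite M
  rw [avg_apply, Finset.smul_sum]
  exact Fintype.sum_equiv (Equiv.mulLeft ⟨m, hm⟩) _ _ (fun g => by simp [mul_smul])

theorem avg_smul {M : Subgroup K} {m : K} (hm : m ∈ M) (w : Y) : avg M (m • w) = avg M w := by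
  haveI := Fintype.ofFinite M
  rw [avg_apply, avg_apply]
  exact Fintype.sum_equiv (Equiv.mulRight ⟨m, hm⟩) _ _ (fun g => by simp [mul_smul])

theorem avg_conj {M : Subgroup K} {h : K} (hh : ∀ g ∈ M, h * g * h⁻¹ ∈ M) (w : Y) :
    h • avg M w = avg M (h • w) := by
  haveI := Fintype.ofFinite M
  rw [avg_apply, avg_apply, Finset.smul_sum]
  have hinj : Function.Injective (fun g : M => (⟨h * g * h⁻¹, hh g g.2⟩ : M)) := by
    intro a b hab
    have h1 := congrArg Subtype.val hab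
    simp only [mul_left_inj, mul_right_inj] at h1
    exact Subtype.ext h1
  have hbij := (Finite.injective_iff_bijective).1 hinj
  exact Fintype.sum_bijective _ hbij _ _ (fun g => by simp [mul_smul])

theorem odd_nsmul {w : Y} (h2 : w + w = 0) {n : ℕ} (hn : Odd n) : n • w = w := by
  obtain ⟨k, rfl⟩ := hn
  rw [add_nsmul, mul_comm, mul_nsmul, one_nsmul]
  have : (2 : ℕ) • (k • w) = 0 := by
    rw [← mul_nsmul, mul_comm, mul_nsmul, two_nsmul, h2, nsmul_zero]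
  rw [this, zero_add]

theorem avg_fix {M : Subgroup K} (hM : Odd (Nat.card M)) {w : Y} (h2 : w + w = 0)
    (hw : ∀ g ∈ M, g • w = w) : avg M w = w := by
  haveI := Fintype.ofFinite M
  rw [avg_apply, Finset.sum_congr rfl (fun (g : M) _ => hw g g.2), Finset.sum_const, Finset.card_univ,
    ← Nat.card_eq_fintype_card]
  exact odd_nsmul h2 hM

/-! ### The configuration -/

/-- The configuration. -/
structure Cfg (L T : Subgroup K) (R D : AddSubgroup Y) : Prop where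
  odd : Odd (Nat.card L)
  TL : T ≤ L
  disj : ∀ x ∈ R, x ∈ D → x = 0
  invW : ∀ g ∈ L, ∀ w ∈ R ⊔ D, g • w ∈ R ⊔ D
  fixD : ∀ t ∈ T, ∀ d ∈ D, t • d = d
  invR : ∀ t ∈ T, ∀ r ∈ R, t • r ∈ R
  trans : ∀ x ∈ R, x ≠ 0 → ∀ y ∈ R, y ≠ 0 → ∃ t ∈ T, t • x = y
  four : 4 ≤ Nat.card R
  le : Nat.card D ≤ Nat.card R

/-- the conclusion -/
def Nrm (g : K) (R D : AddSubgroup Y) : Prop := (∀ r ∈ R, g • r ∈ R) ∧ ∀ d ∈ D, g • d ∈ D

theorem exists_ne {R : AddSubgroup Y} (h4 : 4 ≤ Nat.card R) (a b : Y) : ∃ r ∈ R, r ≠ 0 ∧ r ≠ a ∧ r ≠ b := by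
  classical
  by_contra hcon
  push Not at hcon
  have hsub : (R : Set Y) ⊆ (({0, a, b} : Finset Y) : Set Y) := by
    intro r hr
    simp only [Finset.coe_insert, Finset.coe_singleton, Set.mem_insert_iff, Set.mem_singleton_iff]
    by_cases h0 : r = 0
    · exact Or.inl h0
    · by_cases h1 : r = a
      · exact Or.inr (Or.inl h1)
      · exact Or.inr (Or.inr (hcon r hr h0 h1))
  have h1 : Nat.card R ≤ 3 := by
    have h2 := Set.ncard_le_ncard hsub (Finset.finite_toSet _)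
    rw [Set.ncard_coe_finset] at h2
    exact h2.trans Finset.card_le_three
  omega

/-- the images of `D` -/
theorem inv_mem_of {g : K} {A : AddSubgroup Y} (h : ∀ d ∈ A, g • d ∈ A) : ∀ d ∈ A, g⁻¹ • d ∈ A := by
  intro d hd
  have hinj : Function.Injective (fun x : A => (⟨g • (x : Y), h x x.2⟩ : A)) := by
    intro a b hab
    have h1 := congrArg Subtype.val hab
    exact Subtype.ext (smul_left_cancel g h1)
  obtain ⟨⟨x, hx⟩, hxe⟩ := ((Finite.injective_iff_bijective).1 hinj).2 ⟨d, hd⟩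
  have h1 : g • x = d := congrArg Subtype.val hxe
  rw [← h1, inv_smul_smul]
  exact hx

theorem smul_ne {g : K} {x : Y} (hx : x ≠ 0) : g • x ≠ 0 := fun h => hx (by
  have h1 : g • x = g • (0 : Y) := by rw [h, smul_zero]
  exact smul_left_cancel g h1)

section basic

variable (h2 : ∀ y : Y, y + y = 0) {L T : Subgroup K} {R D : AddSubgroup Y} (C : Cfg L T R D)
include C

/-- unique decomposition -/
theorem Cfg.uniq {r r' d d' : Y} (hr : r ∈ R) (hr' : r' ∈ R) (hd : d ∈ D) (hd' : d' ∈ D)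
    (h : r + d = r' + d') : r = r' ∧ d = d' := by
  have h1 : r - r' = d' - d := by
    rw [sub_eq_sub_iff_add_eq_add]; rw [h]; abel
  have h3 : r - r' = 0 := C.disj _ (R.sub_mem hr hr') (h1 ▸ D.sub_mem hd' hd)
  exact ⟨sub_eq_zero.1 h3, (sub_eq_zero.1 (h1 ▸ h3)).symm⟩

/-- the fixed points of `T` -/
theorem Cfg.fix_mem {w : Y} (hw : w ∈ R ⊔ D) (h : ∀ t ∈ T, t • w = w) : w ∈ D := by
  obtain ⟨r, hr, d, hd, rfl⟩ := AddSubgroup.mem_sup.1 hw
  have hr0 : r = 0 := by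
    by_contra hne
    obtain ⟨r', hr', h0, h1, -⟩ := exists_ne C.four r r
    obtain ⟨t, ht, hte⟩ := C.trans r hr hne r' hr' h0
    have h3 := h t ht
    rw [smul_add, C.fixD t ht d hd, hte] at h3
    exact h1 (add_right_cancel h3)
  rw [hr0, zero_add]
  exact hd

include h2 in
theorem Cfg.avg_R {M : Subgroup K} (hM : T ≤ M) {r : Y} (hr : r ∈ R) : avg M r = 0 := by
  by_cases h0 : r = 0
  · rw [h0, map_zero]
  obtain ⟨a, ha, ha0, har, -⟩ := exists_ne C.four r r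
  have hb : r + a ≠ 0 := fun h => har (by
    have h3 : r + a = a + a := by rw [h, h2]
    exact (add_right_cancel h3).symm)
  obtain ⟨t, ht, hte⟩ := C.trans a ha ha0 (r + a) (R.add_mem hr ha) hb
  have h3 : r = a + t • a := by
    rw [hte, add_comm a, add_assoc, h2, add_zero]
  rw [h3, map_add, avg_smul (hM ht), h2]


theorem Cfg.avg_mem {M : Subgroup K} (hM : M ≤ L) {w : Y} (hw : w ∈ R ⊔ D) : avg M w ∈ R ⊔ D := by
  haveI := Fintype.ofFinite M
  rw [avg_apply]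
  exact AddSubgroup.sum_mem _ fun g _ => C.invW g (hM g.2) w hw

theorem Cfg.avg_mem_D {M : Subgroup K} (hM : M ≤ L) (hTM : T ≤ M) {w : Y} (hw : w ∈ R ⊔ D) : avg M w ∈ D :=
  C.fix_mem (C.avg_mem hM hw) fun _ ht => smul_avg (hTM ht) w

theorem Cfg.le_sup {r : Y} (hr : r ∈ R) : r ∈ R ⊔ D := AddSubgroup.mem_sup_left hr

theorem Cfg.le_sup' {d : Y} (hd : d ∈ D) : d ∈ R ⊔ D := AddSubgroup.mem_sup_right hd

include h2 in
/-- **The averaged sub-configuration** `R ⊕ (D ∩ ker)`. -/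
theorem Cfg.sub {M : Subgroup K} (hML : M ≤ L) (hTM : T ≤ M) :
    Cfg M T R (D ⊓ (avg M : Y →+ Y).ker) where
  odd := C.odd.of_dvd_nat (Subgroup.card_dvd_of_le hML)
  TL := hTM
  disj x hx hd := C.disj x hx hd.1
  invW g hg w hw := by
    have hw1 : w ∈ R ⊔ D := sup_le_sup_left (inf_le_left : D ⊓ (avg M : Y →+ Y).ker ≤ D) R hw
    have hw2 : avg M w = 0 := by
      obtain ⟨r, hr, d, hd, rfl⟩ := AddSubgroup.mem_sup.1 hw
      rw [map_add, C.avg_R h2 hTM hr, zero_add]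
      exact (AddMonoidHom.mem_ker).1 hd.2
    have h3 := C.invW g (hML hg) w hw1
    obtain ⟨r, hr, d, hd, hrd⟩ := AddSubgroup.mem_sup.1 h3
    rw [← hrd]
    refine AddSubgroup.add_mem _ (AddSubgroup.mem_sup_left hr) (AddSubgroup.mem_sup_right ⟨hd, ?_⟩)
    refine (AddMonoidHom.mem_ker).2 ?_
    have h4 : avg M (g • w) = avg M r + avg M d := by rw [← map_add, hrd]
    rw [avg_smul hg, hw2, C.avg_R h2 hTM hr, zero_add] at h4
    exact h4.symm
  fixD t ht d hd := C.fixD t ht d hd.1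
  invR := C.invR
  trans := C.trans
  four := C.four
  le := (Nat.card_mono (Set.toFinite _) (inf_le_left : D ⊓ (avg M : Y →+ Y).ker ≤ D)).trans C.le

include h2 in
/-- (1): the stabiliser of a nonzero element of `D`, from the sub-configuration. -/
theorem Cfg.stab_of {M : Subgroup K} (hML : M ≤ L) (hTM : T ≤ M) {g : K} (hg : g ∈ M)
    (IH : Nrm g R (D ⊓ (avg M : Y →+ Y).ker)) : Nrm g R D := by
  refine ⟨IH.1, fun d hd => ?_⟩
  have h3 : avg M d ∈ D := C.avg_mem_D hML hTM (C.le_sup' hd)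
  have hMo : Odd (Nat.card M) := C.odd.of_dvd_nat (Subgroup.card_dvd_of_le hML)
  have h4 : avg M (avg M d) = avg M d := avg_fix hMo (h2 _) fun m hm => smul_avg hm d
  have h5 : d + avg M d ∈ D ⊓ (avg M : Y →+ Y).ker := by
    refine ⟨D.add_mem hd h3, ?_⟩
    refine (AddMonoidHom.mem_ker).2 ?_
    rw [map_add, h4, h2]
  have h6 := (IH.2 _ h5).1
  have h7 : g • d = g • (d + avg M d) + avg M d := by
    rw [smul_add, smul_avg hg, add_assoc, h2, add_zero]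
  rw [h7]
  exact D.add_mem h6 h3

include h2 in
theorem Cfg.card_lt {M : Subgroup K} (hML : M ≤ L) {x : Y} (hx : x ∈ D) (hx0 : x ≠ 0)
    (hfix : ∀ g ∈ M, g • x = x) : Nat.card ↥(D ⊓ (avg M : Y →+ Y).ker) < Nat.card D := by
  have hMo : Odd (Nat.card M) := C.odd.of_dvd_nat (Subgroup.card_dvd_of_le hML)
  have h1 : D ⊓ (avg M : Y →+ Y).ker < D := by
    refine lt_of_le_of_ne inf_le_left fun h => hx0 ?_
    have h3 : x ∈ D ⊓ (avg M : Y →+ Y).ker := by rw [h]; exact hx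
    have h4 := (AddMonoidHom.mem_ker).1 h3.2
    rw [avg_fix hMo (h2 x) hfix] at h4
    exact h4
  exact Set.Finite.card_lt_card (Set.toFinite _) h1


end basic

section ti

variable (h2 : ∀ y : Y, y + y = 0) {L T : Subgroup K} {R D : AddSubgroup Y} (C : Cfg L T R D)
  (St : ∀ x ∈ D, x ≠ 0 → ∀ g ∈ L, g • x = x → Nrm g R D)
include C

/-- `T`-transitivity with a moving element -/
theorem Cfg.exists_move {x : Y} (hx : x ∈ R) (h0 : x ≠ 0) : ∃ t ∈ T, t • x ≠ x := by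
  obtain ⟨r', hr', h0', h1, -⟩ := exists_ne C.four x x
  obtain ⟨t, ht, hte⟩ := C.trans x hx h0 r' hr' h0'
  exact ⟨t, ht, fun h => h1 (by rw [← hte, h])⟩

include St in
/-- (2) **TI**. -/
theorem Cfg.ti {x : Y} (hx : x ∈ D) (hx0 : x ≠ 0) {g : K} (hg : g ∈ L) (hgx : g • x ∈ D) :
    ∀ d ∈ D, g • d ∈ D := by
  have hgx0 : g • x ≠ 0 := fun h => hx0 (by
    have h1 : g • x = g • (0 : Y) := by rw [h, smul_zero]
    exact smul_left_cancel g h1)
  -- the conjugates of `T`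
  have hN : ∀ t ∈ T, Nrm (g * t * g⁻¹) R D := fun t ht =>
    St (g • x) hgx hgx0 (g * t * g⁻¹) (L.mul_mem (L.mul_mem hg (C.TL ht)) (L.inv_mem hg)) (by
      rw [mul_smul, mul_smul, inv_smul_smul, C.fixD t ht x hx])
  have hmove : ∀ t : K, ∀ y : Y, (g * t * g⁻¹) • (g • y) = g • t • y := fun t y => by
    rw [mul_smul, mul_smul, inv_smul_smul]
  have hdec : ∀ y ∈ R ⊔ D, ∃ r ∈ R, ∃ d ∈ D, g • y = r + d := fun y hy => by
    obtain ⟨r, hr, d, hd, h⟩ := AddSubgroup.mem_sup.1 (C.invW g hg y hy)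
    exact ⟨r, hr, d, hd, h.symm⟩
  -- `gR = R`
  have c2 : ∀ ρ ∈ R, g • ρ ∈ R := by
    by_contra hcon
    push Not at hcon
    obtain ⟨ρ₁, hρ₁, hρ₁R⟩ := hcon
    -- no nonzero element of `R` goes to `R`
    have c3 : ∀ ρ ∈ R, ρ ≠ 0 → ¬ g • ρ ∈ R := by
      intro ρ hρ hρ0 hρR
      apply hρ₁R
      by_cases h0 : ρ₁ = 0
      · rw [h0, smul_zero]; exact R.zero_mem
      obtain ⟨t, ht, rfl⟩ := C.trans ρ hρ hρ0 ρ₁ hρ₁ h0
      rw [← hmove]
      exact (hN t ht).1 _ hρR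
    choose! a ha b hb hab using hdec
    have hinj : Function.Injective (fun r : R => (⟨b r, hb r (C.le_sup r.2)⟩ : D)) := by
      intro r s hrs
      have h1 : b r = b s := congrArg Subtype.val hrs
      by_contra hne
      have hne' : (r : Y) - s ≠ 0 := fun h => hne (Subtype.ext (sub_eq_zero.1 h))
      apply c3 _ (R.sub_mem r.2 s.2) hne'
      rw [smul_sub, hab r (C.le_sup r.2), hab s (C.le_sup s.2), h1, add_sub_add_right_eq_sub]
      exact R.sub_mem (ha _ (C.le_sup r.2)) (ha _ (C.le_sup s.2))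
    obtain ⟨⟨ρ, hρ⟩, he⟩ := (hinj.bijective_of_nat_card_le C.le).2 ⟨g • x, hgx⟩
    have h1 : b ρ = g • x := congrArg Subtype.val he
    have hρ0 : ρ ≠ 0 := by
      rintro rfl
      have h3 := hab 0 (C.le_sup hρ)
      rw [smul_zero] at h3
      have h4 := C.uniq R.zero_mem (ha 0 (C.le_sup hρ)) D.zero_mem (hb 0 (C.le_sup hρ)) (by rw [← h3, add_zero])
      rw [h1] at h4
      exact hgx0 h4.2.symm
    obtain ⟨t, ht, hte⟩ := C.exists_move hρ hρ0
    have htρ := C.invR t ht ρ hρ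
    have h3 : g • (t • ρ) = (g * t * g⁻¹) • a ρ + g • x := by
      rw [← hmove, hab ρ (C.le_sup hρ), smul_add, h1, hmove, C.fixD t ht x hx]
    have h4 := hab (t • ρ) (C.le_sup htρ)
    rw [h3] at h4
    have h5 := C.uniq ((hN t ht).1 _ (ha ρ (C.le_sup hρ))) (ha _ (C.le_sup htρ)) hgx (hb _ (C.le_sup htρ)) h4
    have h6 : (⟨t • ρ, htρ⟩ : R) = ⟨ρ, hρ⟩ := hinj (Subtype.ext (show b (t • ρ) = b ρ by rw [← h5.2, h1]))
    exact hte (congrArg Subtype.val h6)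
  -- the end
  have c4 := inv_mem_of c2
  intro d hd
  obtain ⟨r, hr, δ, hδ, hrd⟩ := hdec d (C.le_sup' hd)
  have h5 : ∀ t ∈ T, (g * t * g⁻¹) • r = r := by
    intro t ht
    have h6 : (g * t * g⁻¹) • (g • d) = g • d := by rw [hmove, C.fixD t ht d hd]
    rw [hrd, smul_add] at h6
    exact (C.uniq ((hN t ht).1 r hr) hr ((hN t ht).2 δ hδ) hδ h6).1
  have h7 : r = 0 := by
    by_contra hr0
    have h8 : g⁻¹ • r ≠ 0 := fun h => hr0 (by
      have h1 : g⁻¹ • r = g⁻¹ • (0 : Y) := by rw [h, smul_zero]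
      exact smul_left_cancel g⁻¹ h1)
    obtain ⟨t, ht, hte⟩ := C.exists_move (c4 r hr) h8
    apply hte
    have h9 := h5 t ht
    rw [mul_smul, mul_smul] at h9
    have h10 : g⁻¹ • g • t • g⁻¹ • r = g⁻¹ • r := by rw [h9]
    rwa [inv_smul_smul] at h10
  rw [hrd, h7, zero_add]
  exact hδ


/-- the elements acting trivially on `D` -/
def cD (L : Subgroup K) (D : AddSubgroup Y) : Subgroup K where
  carrier := {h | h ∈ L ∧ ∀ d ∈ D, h • d = d}
  one_mem' := ⟨L.one_mem, fun d _ => one_smul K d⟩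
  mul_mem' {a b} ha hb := ⟨L.mul_mem ha.1 hb.1, fun d hd => by rw [mul_smul, hb.2 d hd, ha.2 d hd]⟩
  inv_mem' {a} ha := ⟨L.inv_mem ha.1, fun d hd => by rw [inv_smul_eq_iff, ha.2 d hd]⟩

/-- the normaliser of `D` -/
def nD (L : Subgroup K) (D : AddSubgroup Y) : Subgroup K where
  carrier := {h | h ∈ L ∧ ∀ d ∈ D, h • d ∈ D}
  one_mem' := ⟨L.one_mem, fun d hd => by rw [one_smul]; exact hd⟩
  mul_mem' {a b} ha hb := ⟨L.mul_mem ha.1 hb.1, fun d hd => by rw [mul_smul]; exact ha.2 _ (hb.2 d hd)⟩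
  inv_mem' {a} ha := ⟨L.inv_mem ha.1, inv_mem_of ha.2⟩

include h2 in
/-- (3) `N_L(D)` normalises `R`. -/
theorem Cfg.norm_R {g : K} (hg : g ∈ L) (hD : ∀ d ∈ D, g • d ∈ D) : ∀ r ∈ R, g • r ∈ R := by
  have hT : T ≤ cD L D := fun t ht => ⟨C.TL ht, C.fixD t ht⟩
  have hL : cD L D ≤ L := fun _ h => h.1
  have hD' := inv_mem_of hD
  have hconj : ∀ h ∈ cD L D, g * h * g⁻¹ ∈ cD L D := fun h hh =>
    ⟨L.mul_mem (L.mul_mem hg hh.1) (L.inv_mem hg), fun d hd => by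
      rw [mul_smul, mul_smul, hh.2 _ (hD' d hd), smul_inv_smul]⟩
  intro r hr
  have h1 : avg (cD L D) (g • r) = 0 := by
    rw [← avg_conj hconj, C.avg_R h2 hT hr, smul_zero]
  obtain ⟨r', hr', d, hd, hrd⟩ := AddSubgroup.mem_sup.1 (C.invW g hg r (C.le_sup hr))
  have h3 : d = 0 := by
    have h4 : avg (cD L D) (r' + d) = 0 := by rw [hrd, h1]
    rwa [map_add, C.avg_R h2 hT hr', zero_add,
      avg_fix (C.odd.of_dvd_nat (Subgroup.card_dvd_of_le hL)) (h2 d) fun m hm => hm.2 d hd] at h4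
  rw [← hrd, h3, add_zero]
  exact hr'

include St in
/-- two elements of `L` taking a nonzero `x` to `D` -/
theorem Cfg.rel_D {x : Y} (hx0 : x ≠ 0) {g h : K} (hg : g ∈ L) (hh : h ∈ L) (hgx : g • x ∈ D)
    (hhx : h • x ∈ D) {y : Y} (hy : g • y ∈ D) : h • y ∈ D := by
  have h1 : ∀ d ∈ D, (h * g⁻¹) • d ∈ D :=
    C.ti St hgx (smul_ne hx0) (L.mul_mem hh (L.inv_mem hg)) (by rw [mul_smul, inv_smul_smul]; exact hhx)
  have h3 := h1 _ hy
  rwa [mul_smul, inv_smul_smul] at h3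

include h2 St in
theorem Cfg.rel_R {x : Y} (hx0 : x ≠ 0) {g h : K} (hg : g ∈ L) (hh : h ∈ L) (hgx : g • x ∈ D)
    (hhx : h • x ∈ D) {y : Y} (hy : g • y ∈ R) : h • y ∈ R := by
  have h1 : ∀ d ∈ D, (h * g⁻¹) • d ∈ D :=
    C.ti St hgx (smul_ne hx0) (L.mul_mem hh (L.inv_mem hg)) (by rw [mul_smul, inv_smul_smul]; exact hhx)
  have h3 := C.norm_R h2 (L.mul_mem hh (L.inv_mem hg)) h1 _ hy
  rwa [mul_smul, inv_smul_smul] at h3

include St in
/-- **No 2-cycles.** -/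
theorem Cfg.no_two {x y : Y} (hx : x ∈ D) (hx0 : x ≠ 0) (hy : y ∈ R) (hy0 : y ≠ 0) {g : K} (hg : g ∈ L)
    (hgy : g • y ∈ D) (hgx : g • x ∈ R) : False := by
  obtain ⟨t, ht, hte⟩ := C.trans (g • x) hgx (smul_ne hx0) y hy hy0
  set h := t * g with hh
  have hhL : h ∈ L := L.mul_mem (C.TL ht) hg
  have h1 : h • x = y := by rw [hh, mul_smul, hte]
  have h3 : h • y ∈ D := by rw [hh, mul_smul, C.fixD t ht _ hgy]; exact hgy
  have h4 : h ^ 2 ∈ nD L D := by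
    refine ⟨L.pow_mem hhL 2, C.ti St hx hx0 (L.pow_mem hhL 2) ?_⟩
    rw [pow_two, mul_smul, h1]
    exact h3
  have h5 : Odd (orderOf h) := by
    have h6 : orderOf (⟨h, hhL⟩ : L) ∣ Nat.card L := orderOf_dvd_natCard _
    rw [Subgroup.orderOf_mk] at h6
    exact C.odd.of_dvd_nat h6
  obtain ⟨m, hm⟩ := h5
  have h6 : (h ^ 2) ^ (m + 1) = h := by
    rw [← pow_mul, show 2 * (m + 1) = orderOf h + 1 by omega, pow_succ, pow_orderOf_eq_one, one_mul]
  have h7 : h ∈ nD L D := h6 ▸ (nD L D).pow_mem h4 (m + 1)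
  have h8 : y ∈ D := h1 ▸ h7.2 x hx
  exact hy0 (C.disj y hy h8)

end ti

/-- the image of `D` under `g⁻¹` -/
def mb (g : K) (D : AddSubgroup Y) : AddSubgroup Y := D.comap (DistribSMul.toAddMonoidHom Y g)

theorem mem_mb {g : K} {D : AddSubgroup Y} {w : Y} : w ∈ mb g D ↔ g • w ∈ D := Iff.rfl

theorem card_mb (g : K) (D : AddSubgroup Y) : Nat.card (mb g D) = Nat.card D := by
  refine Nat.card_congr ⟨fun w => ⟨g • (w : Y), w.2⟩, fun d => ⟨g⁻¹ • (d : Y), ?_⟩, fun w => ?_, fun d => ?_⟩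
  · change g • g⁻¹ • (d : Y) ∈ D
    rw [smul_inv_smul]
    exact d.2
  · exact Subtype.ext (inv_smul_smul g (w : Y))
  · exact Subtype.ext (smul_inv_smul g (d : Y))

theorem card_ne_zero_add_one (A : AddSubgroup Y) : Nat.card {d : Y // d ∈ A ∧ d ≠ 0} + 1 = Nat.card A := by
  have h1 : Nat.card {d : Y // d ∈ A ∧ d ≠ 0} = ({d : Y | d ∈ A ∧ d ≠ 0} : Set Y).ncard := rfl
  have h3 : Nat.card A = (A : Set Y).ncard := rfl
  have h4 : (A : Set Y) = insert 0 {d : Y | d ∈ A ∧ d ≠ 0} := by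
    ext x
    simp only [SetLike.mem_coe, Set.mem_insert_iff, Set.mem_ofPred_eq]
    by_cases h0 : x = 0
    · simp [h0, A.zero_mem]
    · simp [h0]
  rw [h1, h3, h4, Set.ncard_insert_of_notMem (fun h => h.2 rfl) (Set.toFinite _)]

theorem even_card (h2 : ∀ y : Y, y + y = 0) {A : AddSubgroup Y} {x : Y} (hx : x ∈ A) (h0 : x ≠ 0) :
    Even (Nat.card A) := by
  have h1 : addOrderOf (⟨x, hx⟩ : A) = 2 := by
    rw [addOrderOf_eq_prime_iff]
    refine ⟨?_, fun h => h0 (congrArg Subtype.val h)⟩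
    rw [two_nsmul]
    exact Subtype.ext (h2 x)
  have h3 := addOrderOf_dvd_natCard (⟨x, hx⟩ : A)
  rw [h1] at h3
  exact even_iff_two_dvd.2 h3

/-- a subgroup of index at most two -/
theorem card_le_two_mul {A U : AddSubgroup Y} (h : ∀ a ∈ A, ∀ b ∈ A, a ∉ U → b ∉ U → a + b ∈ U) :
    Nat.card A ≤ 2 * Nat.card U := by
  classical
  by_cases hall : ∀ a ∈ A, a ∈ U
  · have h1 : Nat.card A ≤ Nat.card U := Nat.card_mono (Set.toFinite _) (fun a ha => hall a ha)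
    omega
  push Not at hall
  obtain ⟨a₀, ha₀, ha₀U⟩ := hall
  let φ : A → U × Bool := fun a => if ha : (a : Y) ∈ U then (⟨a, ha⟩, true) else (⟨a + a₀, h a a.2 a₀ ha₀ ha ha₀U⟩, false)
  have hφ : Function.Injective φ := by
    intro a b hab
    simp only [φ] at hab
    split_ifs at hab with h1 h3 h3
    · exact Subtype.ext (congrArg (fun p : U × Bool => (p.1 : Y)) hab)
    · exact absurd (congrArg (fun p : U × Bool => p.2) hab) (by simp)
    · exact absurd (congrArg (fun p : U × Bool => p.2) hab) (by simp)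
    · exact Subtype.ext (add_right_cancel (congrArg (fun p : U × Bool => (p.1 : Y)) hab))
  have h1 := Nat.card_le_card_of_injective φ hφ
  rw [Nat.card_prod, Nat.card_eq_fintype_card (α := Bool), Fintype.card_bool] at h1
  omega

section main

variable (h2 : ∀ y : Y, y + y = 0) {L T : Subgroup K} {R D : AddSubgroup Y} (C : Cfg L T R D)
  (St : ∀ x ∈ D, x ≠ 0 → ∀ g ∈ L, g • x = x → Nrm g R D)
  (Mem : ∀ g ∈ L, ∀ r ∈ R, r ≠ 0 → g • r ∈ D → ∀ w, g • w ∈ D → w ∈ R)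
include C


omit [Finite K] in
theorem Cfg.exists_ne_D {g : K} (hg : ∃ d ∈ D, g • d ∉ D) : ∃ x ∈ D, x ≠ 0 := by
  obtain ⟨d, hd, h⟩ := hg
  refine ⟨d, hd, ?_⟩
  rintro rfl
  exact h (by rw [smul_zero]; exact D.zero_mem)

include h2 in
/-- a member which meets `R` trivially covers all cosets of `R` -/
theorem Cfg.coverB {h : K} (hh : h ∈ L) (hR : ∀ r ∈ R, r ≠ 0 → h • r ∉ D) :
    ∀ δ ∈ D, ∃ r ∈ R, h • (r + δ) ∈ D := by
  have hW : ∀ w ∈ mb h D, ∃ r ∈ R, ∃ d ∈ D, w = r + d := by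
    intro w hw
    have h1 : h • w ∈ R ⊔ D := C.le_sup' hw
    have h3 := C.invW h⁻¹ (L.inv_mem hh) _ h1
    rw [inv_smul_smul] at h3
    obtain ⟨r, hr, d, hd, he⟩ := AddSubgroup.mem_sup.1 h3
    exact ⟨r, hr, d, hd, he.symm⟩
  choose! a ha b hb hab using hW
  have hinj : Function.Injective (fun w : mb h D => (⟨b w, hb w w.2⟩ : D)) := by
    intro v w hvw
    have h1 : b v = b w := congrArg Subtype.val hvw
    by_contra hne
    have hne' : (v : Y) - w ≠ 0 := fun h => hne (Subtype.ext (sub_eq_zero.1 h))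
    have h3 : (v : Y) - w ∈ R := by
      rw [hab v v.2, hab w w.2, h1, add_sub_add_right_eq_sub]
      exact R.sub_mem (ha _ v.2) (ha _ w.2)
    exact hR _ h3 hne' ((mb h D).sub_mem v.2 w.2)
  intro δ hδ
  obtain ⟨⟨w, hw⟩, he⟩ := (hinj.bijective_of_nat_card_le (card_mb h D).ge).2 ⟨δ, hδ⟩
  have h1 : b w = δ := congrArg Subtype.val he
  refine ⟨a w, ha w hw, ?_⟩
  rw [← h1, ← hab w hw]
  exact hw

include St h2 in
/-- **The number of covered elements is odd.** -/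
theorem Cfg.odd_cov {x : Y} (hx : x ∈ D) (hx0 : x ≠ 0) :
    Odd (Nat.card {w : Y // w ≠ 0 ∧ ∃ g ∈ L, g • w ∈ D}) := by
  have hch : ∀ w : {w : Y // w ≠ 0 ∧ ∃ g ∈ L, g • w ∈ D}, ∃ g ∈ L, g • (w : Y) ∈ D := fun w => w.2.2
  choose γ hγ hγD using hch
  let F : (nD L D) × {w : Y // w ≠ 0 ∧ ∃ g ∈ L, g • w ∈ D} → L × {d : Y // d ∈ D ∧ d ≠ 0} := fun p =>
    (⟨(p.1 : K) * γ p.2, L.mul_mem p.1.2.1 (hγ p.2)⟩,
      ⟨((p.1 : K) * γ p.2) • (p.2 : Y), by rw [mul_smul]; exact p.1.2.2 _ (hγD p.2), smul_ne p.2.2.1⟩)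
  have hF : Function.Bijective F := by
    constructor
    · rintro ⟨n, w⟩ ⟨n', w'⟩ he
      have h1 : (n : K) * γ w = n' * γ w' := congrArg Subtype.val (Prod.ext_iff.1 he).1
      have h3 : ((n : K) * γ w) • (w : Y) = ((n' : K) * γ w') • (w' : Y) :=
        congrArg Subtype.val (Prod.ext_iff.1 he).2
      rw [← h1] at h3
      obtain rfl : w = w' := Subtype.ext (smul_left_cancel _ h3)
      have h4 : (n : K) = n' := mul_right_cancel h1
      rw [Subtype.ext h4]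
    · rintro ⟨⟨g, hg⟩, ⟨d, hd, hd0⟩⟩
      have hw0 : g⁻¹ • d ≠ 0 := smul_ne hd0
      have hgw : g • g⁻¹ • d = d := smul_inv_smul g d
      let w : {w : Y // w ≠ 0 ∧ ∃ g ∈ L, g • w ∈ D} := ⟨g⁻¹ • d, hw0, g, hg, by rw [hgw]; exact hd⟩
      have hn : g * (γ w)⁻¹ ∈ nD L D := by
        refine ⟨L.mul_mem hg (L.inv_mem (hγ w)), C.ti St (hγD w) (smul_ne w.2.1)
          (L.mul_mem hg (L.inv_mem (hγ w))) ?_⟩
        rw [mul_smul, inv_smul_smul]
        change g • g⁻¹ • d ∈ D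
        rw [hgw]
        exact hd
      refine ⟨(⟨g * (γ w)⁻¹, hn⟩, w), ?_⟩
      refine Prod.ext (Subtype.ext ?_) (Subtype.ext ?_)
      · change g * (γ w)⁻¹ * γ w = g
        rw [inv_mul_cancel_right]
      · change (g * (γ w)⁻¹ * γ w) • (g⁻¹ • d) = d
        rw [inv_mul_cancel_right, hgw]
  have hc := Nat.card_eq_of_bijective F hF
  rw [Nat.card_prod, Nat.card_prod] at hc
  have h3 : Odd (Nat.card {d : Y // d ∈ D ∧ d ≠ 0}) := by
    have h4 := card_ne_zero_add_one D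
    have h5 := even_card h2 hx hx0
    rcases Nat.even_or_odd (Nat.card {d : Y // d ∈ D ∧ d ≠ 0}) with h6 | h6
    · exfalso
      have h7 : Odd (Nat.card D) := h4 ▸ h6.add_one
      exact (Nat.not_even_iff_odd.2 h7) h5
    · exact h6
  have h4 : Odd (Nat.card (nD L D) * Nat.card {w : Y // w ≠ 0 ∧ ∃ g ∈ L, g • w ∈ D}) := by
    rw [hc]
    exact C.odd.mul h3
  exact (Nat.odd_mul.1 h4).2


/-- moving along the `T`-orbits -/
theorem Cfg.move {r r' δ : Y} (hr : r ∈ R) (h0 : r ≠ 0) (hr' : r' ∈ R) (h0' : r' ≠ 0) (hδ : δ ∈ D) :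
    ∃ t ∈ T, t • (r + δ) = r' + δ := by
  obtain ⟨t, ht, hte⟩ := C.trans r hr h0 r' hr' h0'
  exact ⟨t, ht, by rw [smul_add, hte, C.fixD t ht δ hδ]⟩

include St h2 in
/-- **Some member is contained in `R`.** -/
theorem Cfg.exA (hne : ∃ g ∈ L, ∃ d ∈ D, g • d ∉ D) : ∃ r ∈ R, r ≠ 0 ∧ ∃ g ∈ L, g • r ∈ D := by
  by_contra hcon
  push Not at hcon
  obtain ⟨g₀, hg₀, d₁, hd₁, hgd⟩ := hne
  obtain ⟨x, hx, hx0⟩ := C.exists_ne_D ⟨d₁, hd₁, hgd⟩
  have hodd := C.odd_cov h2 St hx hx0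
  have hB := C.coverB h2 (L.inv_mem hg₀) (fun r hr h0 => hcon r hr h0 g₀⁻¹ (L.inv_mem hg₀))
  have hno : ∀ δ ∈ D, δ ≠ 0 → g₀⁻¹ • δ ∉ D := by
    intro δ hδ h0 hmem
    have h1 := C.ti St hδ h0 (L.inv_mem hg₀) hmem
    have h3 := inv_mem_of h1 d₁ hd₁
    rw [inv_inv] at h3
    exact hgd h3
  have key : ∀ w : Y, (w ≠ 0 ∧ ∃ g ∈ L, g • w ∈ D) ↔ (w ∈ R ⊔ D ∧ w ∉ R) := by
    intro w
    constructor
    · rintro ⟨h0, g, hg, hgw⟩
      refine ⟨?_, fun hw => hcon w hw h0 g hg hgw⟩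
      have h3 := C.invW g⁻¹ (L.inv_mem hg) _ (C.le_sup' hgw)
      rwa [inv_smul_smul] at h3
    · rintro ⟨hw, hwR⟩
      obtain ⟨r, hr, δ, hδ, rfl⟩ := AddSubgroup.mem_sup.1 hw
      have hδ0 : δ ≠ 0 := by
        rintro rfl
        exact hwR (by rw [add_zero]; exact hr)
      refine ⟨fun h => hwR (by rw [h]; exact R.zero_mem), ?_⟩
      by_cases hr0 : r = 0
      · exact ⟨1, L.one_mem, by rw [one_smul, hr0, zero_add]; exact hδ⟩
      · obtain ⟨r', hr', hrδ⟩ := hB δ hδ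
        have hr0' : r' ≠ 0 := by
          rintro rfl
          rw [zero_add] at hrδ
          exact hno δ hδ hδ0 hrδ
        obtain ⟨t, ht, hte⟩ := C.move hr hr0 hr' hr0' hδ
        exact ⟨g₀⁻¹ * t, L.mul_mem (L.inv_mem hg₀) (C.TL ht), by rw [mul_smul, hte]; exact hrδ⟩
  have h1 : Nat.card {w : Y // w ≠ 0 ∧ ∃ g ∈ L, g • w ∈ D} = Nat.card {w : Y // w ∈ R ⊔ D ∧ w ∉ R} :=
    Nat.card_congr (Equiv.subtypeEquivRight key)
  have h3 : Nat.card {w : Y // w ∈ R ⊔ D ∧ w ∉ R} + Nat.card R = Nat.card ↥(R ⊔ D) := by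
    have h4 : Nat.card {w : Y // w ∈ R ⊔ D ∧ w ∉ R} = (((R ⊔ D : AddSubgroup Y) : Set Y) \ (R : Set Y)).ncard := rfl
    have h5 : Nat.card R = (R : Set Y).ncard := rfl
    have h6 : Nat.card ↥(R ⊔ D) = ((R ⊔ D : AddSubgroup Y) : Set Y).ncard := rfl
    rw [h4, h5, h6]
    exact Set.ncard_sdiff_add_ncard_of_subset (fun _ h => C.le_sup h) (Set.toFinite _)
  obtain ⟨r, hr, hr0, -, -⟩ := exists_ne C.four (0 : Y) 0
  have h4 := even_card h2 hr hr0
  have h5 := even_card h2 (C.le_sup hr) hr0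
  rw [h1] at hodd
  have h6 : Odd (Nat.card ↥(R ⊔ D)) := h3 ▸ hodd.add_even h4
  exact (Nat.not_even_iff_odd.2 h6) h5

include St h2 Mem in
/-- **The element `h`**: `D^h ≤ R`, and the member `D^{h⁻¹}` covers all cosets. -/
theorem Cfg.exists_h (hne : ∃ g ∈ L, ∃ d ∈ D, g • d ∉ D) :
    ∃ h ∈ L, (∀ x ∈ D, h • x ∈ R) ∧ ∀ δ ∈ D, ∃ r ∈ R, h • (r + δ) ∈ D := by
  obtain ⟨y, hy, hy0, g, hg, hgy⟩ := C.exA h2 St hne
  have hL := L.inv_mem hg
  obtain ⟨_, _, d₁, hd₁, hgd⟩ := hne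
  obtain ⟨x, hx, hx0⟩ := C.exists_ne_D ⟨d₁, hd₁, hgd⟩
  refine ⟨g⁻¹, hL, fun x hx => Mem g hg y hy hy0 hgy _ (by rw [smul_inv_smul]; exact hx), ?_⟩
  refine C.coverB h2 hL fun r hr hr0 hrD => ?_
  have h1 := Mem g⁻¹ hL r hr hr0 hrD (g • x) (by rw [inv_smul_smul]; exact hx)
  exact C.no_two St hx hx0 hy hy0 hg hgy h1

end main

section tour

variable (h2 : ∀ y : Y, y + y = 0) {L T : Subgroup K} {R D : AddSubgroup Y} (C : Cfg L T R D)
  (St : ∀ x ∈ D, x ≠ 0 → ∀ g ∈ L, g • x = x → Nrm g R D) {h : K} (hh : h ∈ L) (hDR : ∀ x ∈ D, h • x ∈ R)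
  (hcov : ∀ δ ∈ D, ∃ r ∈ R, h • (r + δ) ∈ D) {x : Y} (hx : x ∈ D) (hx0 : x ≠ 0)
include C hh hDR hcov hx hx0

/-- **All nonzero elements are covered.** -/
theorem Cfg.allcov {w : Y} (hw : w ∈ R ⊔ D) (hw0 : w ≠ 0) : ∃ g ∈ L, g • w ∈ D := by
  obtain ⟨r, hr, δ, hδ, rfl⟩ := AddSubgroup.mem_sup.1 hw
  by_cases hr0 : r = 0
  · exact ⟨1, L.one_mem, by rw [one_smul, hr0, zero_add]; exact hδ⟩
  obtain ⟨r', hr', hrδ⟩ := hcov δ hδ
  by_cases hr0' : r' = 0
  · -- then `δ = 0`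
    have h1 : h • δ ∈ D := by rw [hr0', zero_add] at hrδ; exact hrδ
    have hδ0 : δ = 0 := by
      by_contra hne
      exact smul_ne hne (C.disj _ (hDR δ hδ) h1)
    obtain ⟨t, ht, hte⟩ := C.trans r hr hr0 (h • x) (hDR x hx) (smul_ne hx0)
    refine ⟨h⁻¹ * t, L.mul_mem (L.inv_mem hh) (C.TL ht), ?_⟩
    rw [hδ0, add_zero, mul_smul, hte, inv_smul_smul]
    exact hx
  · obtain ⟨t, ht, hte⟩ := C.move hr hr0 hr' hr0' hδ
    exact ⟨h * t, L.mul_mem hh (C.TL ht), by rw [mul_smul, hte]; exact hrδ⟩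


/-- **`x ∈ R_y`** for `x ∈ D`, `y ∉ R ∪ D`. -/
theorem Cfg.arcB {y : Y} (hy : y ∈ R ⊔ D) (hyR : y ∉ R) (hyD : y ∉ D) :
    ∃ g ∈ L, g • y ∈ D ∧ ∀ x ∈ D, g • x ∈ R := by
  obtain ⟨r, hr, δ, hδ, rfl⟩ := AddSubgroup.mem_sup.1 hy
  have hr0 : r ≠ 0 := by
    rintro rfl
    exact hyD (by rw [zero_add]; exact hδ)
  have hδ0 : δ ≠ 0 := by
    rintro rfl
    exact hyR (by rw [add_zero]; exact hr)
  obtain ⟨r', hr', hrδ⟩ := hcov δ hδ
  have hr0' : r' ≠ 0 := by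
    rintro rfl
    rw [zero_add] at hrδ
    exact smul_ne hδ0 (C.disj _ (hDR δ hδ) hrδ)
  obtain ⟨t, ht, hte⟩ := C.move hr hr0 hr' hr0' hδ
  refine ⟨h * t, L.mul_mem hh (C.TL ht), by rw [mul_smul, hte]; exact hrδ, fun z hz => ?_⟩
  rw [mul_smul, C.fixD t ht z hz]
  exact hDR z hz

include h2 St in
/-- **TOUR, one half**: `y` covered by `g`, `z` outside `R_y ∪ D_y`: then `y ∈ R_z`. -/
theorem Cfg.arc {y z : Y} (_hy0 : y ≠ 0) {g : K} (hg : g ∈ L) (hgy : g • y ∈ D) (hz : z ∈ R ⊔ D)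
    (hzR : g • z ∉ R) (hzD : g • z ∉ D) {k : K} (hk : k ∈ L) (hkz : k • z ∈ D) : k • y ∈ R := by
  obtain ⟨m, hm, hmz, hmx⟩ := C.arcB hh hDR hcov hx hx0 (C.invW g hg z hz) hzR hzD
  have hz0 : z ≠ 0 := by
    rintro rfl
    exact hzR (by rw [smul_zero]; exact R.zero_mem)
  have h1 : (m * g) • y ∈ R := by rw [mul_smul]; exact hmx _ hgy
  exact C.rel_R h2 St hz0 (L.mul_mem hm hg) hk (by rw [mul_smul]; exact hmz) hkz h1

include h2 St in
/-- **`|D| = 2`.** -/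
theorem Cfg.eq_of_ne (Mem : ∀ g ∈ L, ∀ r ∈ R, r ≠ 0 → g • r ∈ D → ∀ w, g • w ∈ D → w ∈ R) {x' : Y}
    (hx' : x' ∈ D) (hx0' : x' ≠ 0) : x' = x := by
  by_contra hne
  -- `y ∈ R#`, `g • y ∈ D`
  obtain ⟨y, hy, hy0, -, -⟩ := exists_ne C.four (0 : Y) 0
  obtain ⟨g, hg, hgy⟩ := C.allcov hh hDR hcov hx hx0 (C.le_sup hy) hy0
  have hyD : y ∉ D := fun h => hy0 (C.disj y hy h)
  have hgx : ∀ v ∈ D, v ≠ 0 → g • v ∉ D := by
    intro v hv hv0 hgv
    have h1 := inv_mem_of (C.ti St hv hv0 hg hgv) _ hgy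
    rw [inv_smul_smul] at h1
    exact hyD h1
  -- the decomposition of `g • x`
  obtain ⟨ρ, hρ, η, hη, hgxe⟩ := AddSubgroup.mem_sup.1 (C.invW g hg x (C.le_sup' hx))
  have hρ0 : ρ ≠ 0 := by
    rintro rfl
    rw [zero_add] at hgxe
    exact hgx x hx hx0 (hgxe ▸ hη)
  have hη0 : η ≠ 0 := by
    rintro rfl
    rw [add_zero] at hgxe
    exact C.no_two St hx hx0 hy hy0 hg hgy (hgxe ▸ hρ)
  -- `d₂ ∈ D#`, `d₂ ≠ η`
  obtain ⟨d₂, hd₂, hd₂0, hd₂η⟩ : ∃ d₂ ∈ D, d₂ ≠ 0 ∧ d₂ ≠ η := by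
    by_cases h1 : x = η
    · exact ⟨x', hx', hx0', fun h => hne (by rw [h, h1])⟩
    · exact ⟨x, hx, hx0, h1⟩
  set η₂ := g⁻¹ • d₂ with hη₂
  have hgη : g • η₂ = d₂ := smul_inv_smul g d₂
  have hη₂R : η₂ ∈ R := Mem g hg y hy hy0 hgy _ (by rw [hgη]; exact hd₂)
  have hη₂0 : η₂ ≠ 0 := smul_ne hd₂0
  set z := x + η₂ with hz
  have hzW : z ∈ R ⊔ D := AddSubgroup.add_mem _ (C.le_sup' hx) (C.le_sup hη₂R)
  have hzR : z ∉ R := fun h => hx0 (C.disj x (by
    have h1 := R.sub_mem h hη₂R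
    rwa [hz, add_sub_cancel_right] at h1) hx)
  have hzD : z ∉ D := fun h => hη₂0 (C.disj _ hη₂R (by
    have h1 := D.sub_mem h hx
    rwa [hz, add_sub_cancel_left] at h1))
  have hz0 : z ≠ 0 := fun h => hzR (by rw [h]; exact R.zero_mem)
  obtain ⟨k, hk, hkz⟩ := C.allcov hh hDR hcov hx hx0 hzW hz0
  -- `k • x ∈ R`
  have h1 : k • x ∈ R :=
    C.arc h2 St hh hDR hcov hx hx0 hx0 L.one_mem (by rw [one_smul]; exact hx) hzW (by rw [one_smul]; exact hzR)
      (by rw [one_smul]; exact hzD) hk hkz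
  -- `k • η₂ ∈ R`
  have hgz : g • z = ρ + (η + d₂) := by rw [hz, smul_add, ← hgxe, hgη, add_assoc]
  have hηd : η + d₂ ∈ D := D.add_mem hη hd₂
  have hηd0 : η + d₂ ≠ 0 := fun h => hd₂η (by
    have h3 : η + d₂ = η + η := by rw [h, h2]
    exact add_left_cancel h3)
  have h3 : k • η₂ ∈ R := by
    refine C.arc h2 St hh hDR hcov hx hx0 hη₂0 hg (by rw [hgη]; exact hd₂) hzW ?_ ?_ hk hkz
    · rw [hgz]
      intro h4
      have h5 := R.sub_mem h4 hρ
      rw [add_sub_cancel_left] at h5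
      exact hηd0 (C.disj _ h5 hηd)
    · rw [hgz]
      intro h4
      have h5 := D.sub_mem h4 hηd
      rw [add_sub_cancel_right] at h5
      exact hρ0 (C.disj _ hρ h5)
  have h4 : k • z ∈ R := by
    rw [hz, smul_add]
    exact R.add_mem h1 h3
  exact smul_ne hz0 (C.disj _ h4 hkz)


include h2 St in
/-- **`|W| ≤ 8`.** -/
theorem Cfg.false_of_eight (hD : ∀ x' ∈ D, x' ≠ 0 → x' = x) (h8 : 8 ≤ Nat.card R) : False := by
  obtain ⟨y, hy, hy0, -, -⟩ := exists_ne C.four (0 : Y) 0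
  obtain ⟨g, hg, hgy⟩ := C.allcov hh hDR hcov hx hx0 (C.le_sup hy) hy0
  have hgyx : g • y = x := hD _ hgy (smul_ne hy0)
  have hgxR : g • x ∉ R := fun h1 => C.no_two St hx hx0 hy hy0 hg hgy h1
  set z := x + y with hz
  have hzW : z ∈ R ⊔ D := AddSubgroup.add_mem _ (C.le_sup' hx) (C.le_sup hy)
  have hzR : z ∉ R := fun h => hx0 (C.disj x (by
    have h1 := R.sub_mem h hy
    rwa [hz, add_sub_cancel_right] at h1) hx)
  have hzD : z ∉ D := fun h => hy0 (C.disj _ hy (by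
    have h1 := D.sub_mem h hx
    rwa [hz, add_sub_cancel_left] at h1))
  have hz0 : z ≠ 0 := fun h => hzR (by rw [h]; exact R.zero_mem)
  obtain ⟨k, hk, hkz⟩ := C.allcov hh hDR hcov hx hx0 hzW hz0
  have hkx : k • x ∈ R :=
    C.arc h2 St hh hDR hcov hx hx0 hx0 L.one_mem (by rw [one_smul]; exact hx) hzW (by rw [one_smul]; exact hzR)
      (by rw [one_smul]; exact hzD) hk hkz
  -- the claim
  have key : ∀ u ∈ R, u ≠ 0 → g • u ∈ R → k • u ∉ R := by
    intro u hu hu0 hgu hku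
    set w := x + u with hw
    have hwW : w ∈ R ⊔ D := AddSubgroup.add_mem _ (C.le_sup' hx) (C.le_sup hu)
    have hwR : w ∉ R := fun h => hx0 (C.disj x (by
      have h1 := R.sub_mem h hu
      rwa [hw, add_sub_cancel_right] at h1) hx)
    have hwD : w ∉ D := fun h => hu0 (C.disj _ hu (by
      have h1 := D.sub_mem h hx
      rwa [hw, add_sub_cancel_left] at h1))
    have hw0 : w ≠ 0 := fun h => hwR (by rw [h]; exact R.zero_mem)
    obtain ⟨m, hm, hmw⟩ := C.allcov hh hDR hcov hx hx0 hwW hw0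
    have hmx : m • x ∈ R :=
      C.arc h2 St hh hDR hcov hx hx0 hx0 L.one_mem (by rw [one_smul]; exact hx) hwW (by rw [one_smul]; exact hwR)
        (by rw [one_smul]; exact hwD) hm hmw
    have hmy : m • y ∈ R := by
      refine C.arc h2 St hh hDR hcov hx hx0 hy0 hg hgy hwW ?_ ?_ hm hmw
      · intro h1
        rw [hw, smul_add] at h1
        exact hgxR ((R.add_mem_cancel_right hgu).1 h1)
      · intro h1
        have h3 : g • w = g • y := by rw [hD _ h1 (smul_ne hw0), hgyx]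
        exact hwR (by rw [smul_left_cancel g h3]; exact hy)
    have hmz : m • z ∈ R := by rw [hz, smul_add]; exact R.add_mem hmx hmy
    have hkw : k • w ∈ R := by rw [hw, smul_add]; exact R.add_mem hkx hku
    refine C.no_two St hmw (smul_ne hw0) hmz (smul_ne hz0) (L.mul_mem hk (L.inv_mem hm)) ?_ ?_
    · rw [mul_smul, inv_smul_smul]; exact hkz
    · rw [mul_smul, inv_smul_smul]; exact hkw
  -- parts in `D`
  have hpart : ∀ v ∈ L, ∀ u ∈ R, ∃ r ∈ R, v • u = r ∨ v • u = r + x := by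
    intro v hv u hu
    obtain ⟨r, hr, d, hd, he⟩ := AddSubgroup.mem_sup.1 (C.invW v hv u (C.le_sup hu))
    by_cases hd0 : d = 0
    · exact ⟨r, hr, Or.inl (by rw [← he, hd0, add_zero])⟩
    · exact ⟨r, hr, Or.inr (by rw [← he, hD d hd hd0])⟩
  have hsum : ∀ v ∈ L, ∀ a ∈ R, ∀ b ∈ R, v • a ∉ R → v • b ∉ R → v • (a + b) ∈ R := by
    intro v hv a ha b hb hva hvb
    obtain ⟨r, hr, h1⟩ := hpart v hv a ha
    obtain ⟨r', hr', h3⟩ := hpart v hv b hb
    rcases h1 with h1 | h1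
    · exact absurd (h1 ▸ hr) hva
    rcases h3 with h3 | h3
    · exact absurd (h3 ▸ hr') hvb
    have h4 : v • (a + b) = r + r' := by
      rw [smul_add, h1, h3, add_add_add_comm, h2, add_zero]
    rw [h4]
    exact R.add_mem hr hr'
  have hU : 4 ≤ Nat.card ↥(R ⊓ mb g R) := by
    have h1 : Nat.card R ≤ 2 * Nat.card ↥(R ⊓ mb g R) := by
      refine card_le_two_mul fun a ha b hb haU hbU => ?_
      have h3 : g • a ∉ R := fun h => haU ⟨ha, h⟩
      have h4 : g • b ∉ R := fun h => hbU ⟨hb, h⟩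
      exact ⟨R.add_mem ha hb, hsum g hg a ha b hb h3 h4⟩
    omega
  obtain ⟨u, hu, hu0, -, -⟩ := exists_ne hU (0 : Y) 0
  obtain ⟨u', hu', hu0', hne, -⟩ := exists_ne hU u u
  have h1 := key u hu.1 hu0 hu.2
  have h3 := key u' hu'.1 hu0' hu'.2
  have h4 := hsum k hk u hu.1 u' hu'.1 h1 h3
  have h5 : u + u' ∈ R ⊓ mb g R := (R ⊓ mb g R).add_mem hu hu'
  have h6 : u + u' ≠ 0 := fun h => hne (by
    have h7 : u + u' = u + u := by rw [h, h2]
    exact add_left_cancel h7)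
  exact key _ h5.1 h6 h5.2 h4

end tour

section final

variable (h2 : ∀ y : Y, y + y = 0) {L T : Subgroup K} {R D : AddSubgroup Y}

include h2 in
/-- **The theorem, from (1) and (3a).** -/
theorem Cfg.main (C : Cfg L T R D) (St : ∀ x ∈ D, x ≠ 0 → ∀ g ∈ L, g • x = x → Nrm g R D)
    (Mem : ∀ g ∈ L, ∀ r ∈ R, r ≠ 0 → g • r ∈ D → ∀ w, g • w ∈ D → w ∈ R) (h8 : 8 ≤ Nat.card R) :
    ∀ g ∈ L, Nrm g R D := by
  have hD : ∀ g ∈ L, ∀ d ∈ D, g • d ∈ D := by
    by_contra hcon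
    push Not at hcon
    obtain ⟨h, hh, hDR, hcov⟩ := C.exists_h h2 St Mem hcon
    obtain ⟨_, _, d₁, hd₁, hgd⟩ := hcon
    obtain ⟨x, hx, hx0⟩ := C.exists_ne_D ⟨d₁, hd₁, hgd⟩
    exact C.false_of_eight h2 St hh hDR hcov hx hx0
      (fun x' hx' hx0' => C.eq_of_ne h2 St hh hDR hcov hx hx0 Mem hx' hx0') h8
  exact fun g hg => ⟨C.norm_R h2 hg (hD g hg), hD g hg⟩

/-- semiregularity of `T` on `R#` -/
def Free (T : Subgroup K) (R : AddSubgroup Y) : Prop :=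
  ∀ t ∈ T, ∀ x ∈ R, x ≠ 0 → t • x = x → ∀ r ∈ R, t • r = r

/-- (3a): a member which meets `R` is contained in `R`. -/
theorem Cfg.mem_of_free (C : Cfg L T R D) (hf : Free T R)
    (St : ∀ x ∈ D, x ≠ 0 → ∀ g ∈ L, g • x = x → Nrm g R D) :
    ∀ g ∈ L, ∀ r ∈ R, r ≠ 0 → g • r ∈ D → ∀ w, g • w ∈ D → w ∈ R := by
  intro g hg r hr hr0 hgr
  have hrD : r ∉ D := fun h => hr0 (C.disj r hr h)
  -- `D ∩ D_g = 0`
  have hno : ∀ v ∈ D, v ≠ 0 → g • v ∉ D := by
    intro v hv hv0 hgv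
    have h1 := inv_mem_of (C.ti St hv hv0 hg hgv) _ hgr
    rw [inv_smul_smul] at h1
    exact hrD h1
  have hdec : ∀ w, g • w ∈ D → ∃ a ∈ R, ∃ b ∈ D, w = a + b := by
    intro w hw
    have h3 := C.invW g⁻¹ (L.inv_mem hg) _ (C.le_sup' hw)
    rw [inv_smul_smul] at h3
    obtain ⟨a, ha, b, hb, he⟩ := AddSubgroup.mem_sup.1 h3
    exact ⟨a, ha, b, hb, he.symm⟩
  by_contra hcon
  push Not at hcon
  obtain ⟨w, hgw, hwR⟩ := hcon
  obtain ⟨a, ha, b, hb, rfl⟩ := hdec w hgw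
  have hb0 : b ≠ 0 := by
    rintro rfl
    exact hwR (by rw [add_zero]; exact ha)
  have ha0 : a ≠ 0 := by
    rintro rfl
    rw [zero_add] at hgw
    exact hno b hb hb0 hgw
  have har0 : a + r ≠ 0 := by
    intro h1
    have h3 : g • (a + b + r) ∈ D := by rw [smul_add]; exact D.add_mem hgw hgr
    have h4 : a + b + r = b := by rw [add_right_comm, h1, zero_add]
    rw [h4] at h3
    exact hno b hb hb0 h3
  obtain ⟨t, ht, hte⟩ := C.trans a ha ha0 (a + r) (R.add_mem ha hr) har0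
  -- `t` normalises the member
  have htN : ∀ v, g • v ∈ D → g • t • v ∈ D := by
    have h1 : ∀ d ∈ D, (g * t * g⁻¹) • d ∈ D := by
      refine C.ti St hgw (smul_ne (fun h => hwR (by rw [h]; exact R.zero_mem)))
        (L.mul_mem (L.mul_mem hg (C.TL ht)) (L.inv_mem hg)) ?_
      rw [mul_smul, mul_smul, inv_smul_smul, smul_add, hte, C.fixD t ht b hb, smul_add, smul_add,
        add_right_comm, ← smul_add]
      exact D.add_mem hgw hgr
    intro v hv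
    have h3 := h1 _ hv
    rwa [mul_smul, mul_smul, inv_smul_smul] at h3
  -- the injective map `v ↦ t v - v`
  have hval : ∀ v, g • v ∈ D → ∃ c ∈ R, t • v - v = t • c - c ∧ (v = 0 ∨ c ≠ 0) := by
    intro v hv
    obtain ⟨c, hc, d, hd, rfl⟩ := hdec v hv
    refine ⟨c, hc, ?_, ?_⟩
    · rw [smul_add, C.fixD t ht d hd, add_sub_add_right_eq_sub]
    · by_cases hc0 : c = 0
      · left
        rw [hc0, zero_add] at hv ⊢
        by_contra hd0
        exact hno d hd hd0 hv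
      · exact Or.inr hc0
  have htf : ∀ c ∈ R, c ≠ 0 → t • c ≠ c := by
    intro c hc hc0 h1
    have h3 := hf t ht c hc hc0 h1 a ha
    rw [hte] at h3
    have h4 : a + r = a + 0 := by rw [h3, add_zero]
    exact hr0 (add_left_cancel h4)
  have hinj : Function.Injective (fun v : mb g D => (⟨t • (v : Y) - v, (mb g D).sub_mem (htN v v.2) v.2⟩ : mb g D)) := by
    intro u v huv
    have h1 : t • (u : Y) - u = t • (v : Y) - v := congrArg Subtype.val huv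
    by_contra hne
    have hne' : (u : Y) - v ≠ 0 := fun h => hne (Subtype.ext (sub_eq_zero.1 h))
    obtain ⟨c, hc, h3, h4⟩ := hval ((u : Y) - v) ((mb g D).sub_mem u.2 v.2)
    have h5 : t • ((u : Y) - v) - (u - v) = 0 := by
      rw [smul_sub, sub_sub_sub_comm, h1, sub_self]
    rcases h4 with h4 | h4
    · exact hne' h4
    · rw [h3] at h5
      exact htf c hc h4 (sub_eq_zero.1 h5)
  obtain ⟨v, hv⟩ := ((Finite.injective_iff_bijective).1 hinj).2 ⟨a + b, hgw⟩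
  have h1 : t • (v : Y) - v = a + b := congrArg Subtype.val hv
  obtain ⟨c, hc, h3, -⟩ := hval v v.2
  apply hwR
  rw [← h1, h3]
  exact R.sub_mem (C.invR t ht c hc) hc

include h2 in
/-- **LEMMA SINGER**, `q ≥ 8`. -/
theorem Cfg.norm (n : ℕ) : ∀ (L T : Subgroup K) (R D : AddSubgroup Y), Cfg L T R D → Free T R →
    8 ≤ Nat.card R → Nat.card D = n → ∀ g ∈ L, Nrm g R D := by
  induction n using Nat.strong_induction_on with
  | _ n ih =>
    intro L T R D C hf h8 hn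
    have St : ∀ x ∈ D, x ≠ 0 → ∀ g ∈ L, g • x = x → Nrm g R D := by
      intro x hx hx0 g hg hgx
      set M : Subgroup K := L ⊓ MulAction.stabilizer K x with hM
      have hML : M ≤ L := inf_le_left
      have hTM : T ≤ M := le_inf C.TL fun t ht => C.fixD t ht x hx
      have hgM : g ∈ M := ⟨hg, hgx⟩
      have hlt := C.card_lt h2 hML hx hx0 fun m hm => hm.2
      exact C.stab_of h2 hML hTM hgM (ih _ (hn ▸ hlt) M T R _ (C.sub h2 hML hTM) hf h8 rfl g hgM)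
    exact C.main h2 St (C.mem_of_free hf St) h8


end final

/-- **LEMMA SINGER** (`q ≥ 8`), without solubility: `L` of odd order acts on `R ⊕ D` (characteristic 2), `T ≤ L` is
trivial on `D`, transitive and semiregular on `R#`, `|D| ≤ |R|`. Then `L` normalises `R` and `D`. -/
theorem singer (h2 : ∀ y : Y, y + y = 0) {L T : Subgroup K} {R D : AddSubgroup Y} (hodd : Odd (Nat.card L))
    (hT : T ≤ L) (hdisj : R ⊓ D = ⊥) (hW : ∀ g ∈ L, ∀ w ∈ R ⊔ D, g • w ∈ R ⊔ D)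
    (hfix : ∀ t ∈ T, ∀ d ∈ D, t • d = d) (hinv : ∀ t ∈ T, ∀ r ∈ R, t • r ∈ R)
    (htr : ∀ x ∈ R, x ≠ 0 → ∀ y ∈ R, y ≠ 0 → ∃ t ∈ T, t • x = y)
    (hfree : ∀ t ∈ T, ∀ x ∈ R, x ≠ 0 → t • x = x → ∀ r ∈ R, t • r = r) (h8 : 8 ≤ Nat.card R)
    (hle : Nat.card D ≤ Nat.card R) : ∀ g ∈ L, (∀ r ∈ R, g • r ∈ R) ∧ ∀ d ∈ D, g • d ∈ D :=
  Cfg.norm h2 _ L T R D
    ⟨hodd, hT, fun x hx hd => by
      have h1 : x ∈ R ⊓ D := ⟨hx, hd⟩
      rwa [hdisj, AddSubgroup.mem_bot] at h1, hW, hfix, hinv, htr, by omega, hle⟩ hfree h8 rfl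

end Cfsg.Agent.Omega.NOThreeL.NsF.SingerOdd
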