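import Cfsg.Agent.Omega.NOThreeL.NsF.NormD
import Cfsg.Agent.Omega.NOThreeL.NsF.SingerOdd

/-!
# NsF, F3: the wrapper of LEMMA SINGER (helper901's `SingerOdd.singer`)

`N` acts on the elementary abelian 2-group `Z = R × D` (`φ : N →* MulAut Z`), `|D| ≤ |R|`, the image of a Sylow 2-subgroup
is cyclic and normalises `D`, `T ≤ N` is trivial on `D` and acts on `R` as a transitive group of odd exponent, free on
`R#`; if `|R| = 4` the image of `N` has even order.  Then `N` normalises `D` (`norm_D_hom`).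
-/

set_option autoImplicit false
set_option linter.unusedSectionVars false

namespace Cfsg.Agent.Omega.NOThreeL.NsF.NormD

open Subgroup Cfsg.Agent.Omega.NO3S.Fit.Abs

section Even

variable {A Y : Type*} [Group A] [Finite A] [AddCommGroup Y] [Finite Y] [DistribMulAction A Y] [FaithfulSMul A Y]

theorem comm_of_even (two : ∀ m : Y, m + m = 0) (h16 : Nat.card Y ≤ 16) {K : Subgroup A} (hKn : K.Normal)
    (hK : Odd (Nat.card K)) (hA : 2 ∣ Nat.card A) : ∀ a ∈ K, ∀ b ∈ K, a * b = b * a := by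
  have f7 : Fact (Nat.Prime 7) := ⟨by decide⟩
  have f2 : Fact (Nat.Prime 2) := ⟨by decide⟩
  have h1 : Nat.card K ∣ 315 := by
    have h1 : Nat.card K ∣ Nat.card (AddAut (⊤ : AddSubgroup Y)) :=
      card_dvd_addAut two (fun _ _ => le_top) fun k hk => by
        have := hK.of_dvd_nat (orderOf_dvd_natCard (⟨k, hk⟩ : K))
        rwa [Subgroup.orderOf_mk] at this
    have h2 : Nat.card (AddAut (⊤ : AddSubgroup Y)) ∣ 20160 :=
      card_addAut_dvd two (by rw [AddSubgroup.card_top]; exact h16)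
    have h3 : Nat.card K ∣ 64 * 315 := h1.trans h2
    exact (Nat.Coprime.pow_right 6 (Nat.coprime_two_right.mpr hK)).dvd_of_dvd_mul_left h3
  have h7 : ¬ 7 ∣ Nat.card K := by
    intro h7
    obtain ⟨X⟩ : Nonempty (Sylow 7 K) := inferInstance
    have hX : Nat.card X = 7 := by
      have h2 : Nat.card X ∣ 315 := (card_subgroup_dvd_card (X : Subgroup K)).trans h1
      have h3 : 7 ∣ Nat.card X := X.dvd_card_of_dvd_card h7
      obtain ⟨k, hk⟩ := IsPGroup.iff_card.mp X.isPGroup'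
      rw [hk] at h2 h3 ⊢
      have h4 : k < 2 := by
        by_contra hcon
        have h5 : 7 ^ 2 ∣ 315 := (pow_dvd_pow 7 (by omega)).trans h2
        omega
      interval_cases k
      · omega
      · rfl
    set X' : Subgroup A := (X : Subgroup K).map K.subtype with hX'
    have hcX' : Nat.card X' = 7 := by
      rw [← hX]
      exact (Nat.card_congr ((X : Subgroup K).equivMapOfInjective _ K.subtype_injective).toEquiv).symm
    have hfr : normalizer (X' : Set A) ⊔ K = ⊤ := X.normalizer_sup_eq_top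
    have hev : 2 ∣ Nat.card (normalizer (X' : Set A)) := by
      have h2 : K.index = K.relIndex (normalizer (X' : Set A)) := by
        rw [← relIndex_top_right, ← hfr, relIndex_sup_right]
      have h3 : K.relIndex (normalizer (X' : Set A)) ∣ Nat.card (normalizer (X' : Set A)) := index_dvd_card _
      have h4 : 2 ∣ Nat.card K * K.index := by rw [K.card_mul_index]; exact hA
      have h5 : 2 ∣ K.index := (Nat.coprime_two_left.mpr hK).dvd_of_dvd_mul_left h4
      exact (h2 ▸ h5).trans h3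
    obtain ⟨⟨s, hsN⟩, hs⟩ := exists_prime_orderOf_dvd_card' 2 hev
    rw [Subgroup.orderOf_mk] at hs
    obtain ⟨⟨x, hxX⟩, hx⟩ := exists_prime_orderOf_dvd_card' (G := X') 7 (by rw [hcX'])
    rw [Subgroup.orderOf_mk] at hx
    have hz : zpowers x = X' := by
      apply eq_of_le_of_card_ge (zpowers_le.mpr hxX)
      rw [Nat.card_zpowers, hx, hcX']
    refine not_seven two h16 hx hs ?_
    rw [hz]
    exact (mem_normalizer_iff.mp hsN x).mp hxX
  have h45 : Nat.card K ∣ 45 := by
    have h2 : Nat.Coprime (Nat.card K) 7 := ((Nat.Prime.coprime_iff_not_dvd f7.out).mpr h7).symm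
    exact h2.dvd_of_dvd_mul_left (show Nat.card K ∣ 7 * 45 from h1)
  intro a ha b hb
  exact congrArg Subtype.val (comm_of_card_dvd (K := K) h45 ⟨a, ha⟩ ⟨b, hb⟩)

end Even

section Compl

variable {A : Type*} [Group A] [Finite A]

theorem exists_complement (P : Sylow 2 A) (hP : IsCyclic P) : ∃ K : Subgroup A, K.Normal ∧ Odd (Nat.card K) ∧
    K ⊔ (P : Subgroup A) = ⊤ ∧ ∀ T : Subgroup A, Odd (Nat.card T) → T ≤ K := by
  have f2 : Fact (Nat.Prime 2) := ⟨by decide⟩
  by_cases hA : 2 ∣ Nat.card A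
  · have hmin : (Nat.card A).minFac = 2 := (Nat.minFac_eq_two_iff _).mpr hA
    have hP' : IsCyclic (P : Subgroup A) := hP
    have hc := IsCyclic.isComplement' hmin hP'
    set K := (MonoidHom.transferSylow P (hP'.normalizer_le_centralizer hmin)).ker with hK
    have hKn : K.Normal := inferInstance
    have hi : K.index = Nat.card P := hc.symm.index_eq_card
    have hodd : Odd (Nat.card K) := by
      have h1 : Nat.card K = (P : Subgroup A).index := hc.index_eq_card.symm
      rw [h1]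
      have := P.not_dvd_index
      rwa [← Nat.not_even_iff_odd, even_iff_two_dvd]
    refine ⟨K, hKn, hodd, hc.sup_eq_top, fun T hT => ?_⟩
    have h1 : K.relIndex T ∣ K.index := relIndex_dvd_index_of_normal K T
    have h2 : K.relIndex T ∣ Nat.card T := index_dvd_card _
    obtain ⟨k, hk⟩ := IsPGroup.iff_card.mp P.isPGroup'
    rw [hi, hk] at h1
    have h3 : Nat.Coprime (K.relIndex T) (2 ^ k) :=
      Nat.Coprime.pow_right k (Nat.coprime_two_right.mpr (hT.of_dvd_nat h2))
    exact relIndex_eq_one.mp (Nat.Coprime.eq_one_of_dvd h3 h1)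
  · refine ⟨⊤, inferInstance, ?_, top_sup_eq _, fun _ _ => le_top⟩
    rw [card_top]
    rwa [← Nat.not_even_iff_odd, even_iff_two_dvd]

theorem odd_card_of_pow {T : Subgroup A} {m : ℕ} (hm : Odd m) (h : ∀ t ∈ T, t ^ m = 1) : Odd (Nat.card T) := by
  have f2 : Fact (Nat.Prime 2) := ⟨by decide⟩
  rw [← Nat.not_even_iff_odd, even_iff_two_dvd]
  intro h2
  obtain ⟨⟨t, ht⟩, hto⟩ := exists_prime_orderOf_dvd_card' (G := T) 2 h2
  rw [Subgroup.orderOf_mk] at hto
  have h1 : orderOf t ∣ m := orderOf_dvd_of_pow_eq_one (h t ht)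
  rw [hto] at h1
  exact (Nat.not_even_iff_odd.mpr hm) (even_iff_two_dvd.mpr h1)

end Compl

section Wrap

variable {A : Type*} {Y : Type*} [Group A] [Finite A] [AddCommGroup Y] [Finite Y] [DistribMulAction A Y]
  [FaithfulSMul A Y]

theorem norm_D_add (two : ∀ m : Y, m + m = 0) (P : Sylow 2 A) (hP : IsCyclic P) {T : Subgroup A}
    {R D : AddSubgroup Y} {m : ℕ} (hm : Odd m) (hT : ∀ t ∈ T, t ^ m = 1) (hdisj : R ⊓ D = ⊥) (hsup : R ⊔ D = ⊤)
    (hfix : ∀ t ∈ T, ∀ d ∈ D, t • d = d) (hinv : ∀ t ∈ T, ∀ r ∈ R, t • r ∈ R)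
    (htr : ∀ x ∈ R, x ≠ 0 → ∀ y ∈ R, y ≠ 0 → ∃ t ∈ T, t • x = y)
    (hfree : ∀ t ∈ T, ∀ x ∈ R, x ≠ 0 → t • x = x → ∀ r ∈ R, t • r = r) (h4 : 4 ≤ Nat.card R)
    (hle : Nat.card D ≤ Nat.card R) (hPD : ∀ s ∈ P, ∀ d ∈ D, s • d ∈ D)
    (hev : Nat.card R = 4 → 2 ∣ Nat.card A) : ∀ a : A, ∀ d ∈ D, a • d ∈ D := by
  obtain ⟨K, hKn, hKodd, hKP, hKT⟩ := exists_complement P hP
  have hTK : T ≤ K := hKT T (odd_card_of_pow hm hT)
  have key : ∀ k ∈ K, ∀ d ∈ D, k • d ∈ D := by
    by_cases h8 : 8 ≤ Nat.card R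
    · intro k hk d hd
      exact (SingerOdd.singer two hKodd hTK hdisj (fun _ _ w _ => by rw [hsup]; exact AddSubgroup.mem_top _) hfix
        hinv htr hfree h8 hle k hk).2 d hd
    · have hR : Nat.card R = 4 := by
        obtain ⟨a, ha⟩ := exists_card_two_pow two R
        rw [ha] at h4 h8 ⊢
        have h1 : a < 3 := by
          by_contra hcon
          have : 2 ^ 3 ≤ 2 ^ a := Nat.pow_le_pow_right (by decide) (by omega)
          omega
        interval_cases a <;> omega
      have h16 : Nat.card Y ≤ 16 := by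
        have h1 := card_sup_le R D
        rw [hsup, AddSubgroup.card_top] at h1
        rw [hR] at h1 hle
        omega
      have hcomm := comm_of_even two h16 hKn hKodd (hev hR)
      intro k hk d hd
      -- `C_Y(T) ≤ D`
      have hfD : ∀ y : Y, (∀ t ∈ T, t • y = y) → y ∈ D := by
        intro y hy
        have hy' : y ∈ R ⊔ D := by rw [hsup]; exact AddSubgroup.mem_top _
        obtain ⟨r, hr, d, hd, rfl⟩ := AddSubgroup.mem_sup.mp hy'
        have hr0 : r = 0 := by
          by_contra hr0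
          obtain ⟨r', hr', hr'0, hne⟩ := exists_ne_ne_of_card hR (u := r)
          obtain ⟨t, ht, h1⟩ := htr r hr hr0 r' hr' hr'0
          have h2 := hy t ht
          rw [smul_add, hfix t ht d hd, h1] at h2
          exact hne (add_right_cancel h2)
        rw [hr0, zero_add]
        exact hd
      apply hfD
      intro t ht
      rw [← mul_smul, hcomm t (hTK ht) k hk, mul_smul, hfix t ht d hd]
  intro a d hd
  have ha : a ∈ K ⊔ (P : Subgroup A) := hKP ▸ mem_top a
  rw [← SetLike.mem_coe, normal_mul, Set.mem_mul] at ha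
  obtain ⟨k, hk, s, hs, rfl⟩ := ha
  rw [mul_smul]
  exact key k hk _ (hPD s hs d hd)

end Wrap

section Hom

variable {N Z : Type*} [Group N] [Finite N] [CommGroup Z] [Finite Z]

/-- the action of the image of `φ : N →* MulAut Z` on `Additive Z` -/
@[reducible] def act (φ : N →* MulAut Z) : DistribMulAction φ.range (Additive Z) where
  smul a y := Additive.ofMul ((a : MulAut Z) y.toMul)
  one_smul _ := rfl
  mul_smul _ _ _ := rfl
  smul_zero a := congrArg Additive.ofMul (map_one (a : MulAut Z))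
  smul_add a x y := congrArg Additive.ofMul (map_mul (a : MulAut Z) x.toMul y.toMul)

theorem norm_D_hom (two : ∀ z : Z, z * z = 1) (φ : N →* MulAut Z) (P : Sylow 2 N) {s₀ : N} (hs₀ : s₀ ∈ P)
    (hcyc : ∀ s ∈ P, ∃ k : ℤ, φ s = φ s₀ ^ k) {T : Subgroup N} {R D : Subgroup Z} {m : ℕ} (hm : Odd m)
    (hT : ∀ t ∈ T, φ t ^ m = 1) (hdisj : R ⊓ D = ⊥) (hsup : R ⊔ D = ⊤)
    (hfix : ∀ t ∈ T, ∀ d ∈ D, φ t d = d) (hinv : ∀ t ∈ T, ∀ r ∈ R, φ t r ∈ R)
    (htr : ∀ x ∈ R, x ≠ 1 → ∀ y ∈ R, y ≠ 1 → ∃ t ∈ T, φ t x = y)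
    (hfree : ∀ t ∈ T, ∀ x ∈ R, x ≠ 1 → φ t x = x → ∀ r ∈ R, φ t r = r) (h4 : 4 ≤ Nat.card R)
    (hle : Nat.card D ≤ Nat.card R) (hPD : ∀ s ∈ P, ∀ d ∈ D, φ s d ∈ D)
    (hev : Nat.card R = 4 → ∃ s ∈ P, φ s ≠ 1) : ∀ n : N, ∀ d ∈ D, φ n d ∈ D := by
  have f2 : Fact (Nat.Prime 2) := ⟨by decide⟩
  let _inst : DistribMulAction φ.range (Additive Z) := act φ
  have hsm : ∀ (a : φ.range) (y : Additive Z), a • y = Additive.ofMul ((a : MulAut Z) y.toMul) := fun _ _ => rfl
  have hfaith : FaithfulSMul φ.range (Additive Z) := ⟨fun {a b} h => by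
    apply Subtype.ext
    ext z
    exact congrArg Additive.toMul (h (Additive.ofMul z))⟩
  have hsurj : Function.Surjective φ.rangeRestrict := φ.rangeRestrict_surjective
  let PA : Sylow 2 φ.range := P.mapSurjective hsurj
  have hPA : ∀ a : φ.range, a ∈ PA ↔ ∃ s ∈ P, φ.rangeRestrict s = a := fun a => Iff.rfl
  have hPAc : IsCyclic PA := by
    refine ⟨⟨⟨φ.rangeRestrict s₀, (hPA _).mpr ⟨s₀, hs₀, rfl⟩⟩, ?_⟩⟩
    rintro ⟨a, ha⟩
    obtain ⟨s, hs, rfl⟩ := (hPA a).mp ha
    obtain ⟨k, hk⟩ := hcyc s hs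
    refine mem_zpowers_iff.mpr ⟨k, ?_⟩
    apply Subtype.ext
    apply Subtype.ext
    exact hk.symm
  have h1 := norm_D_add (A := φ.range) (Y := Additive Z) (fun y => two y.toMul) PA hPAc
    (T := T.map φ.rangeRestrict) (R := Subgroup.toAddSubgroup R) (D := Subgroup.toAddSubgroup D) hm
    (by
      rintro _ ⟨t, ht, rfl⟩
      apply Subtype.ext
      exact hT t ht)
    (by
      rw [eq_bot_iff]
      rintro y ⟨hy1, hy2⟩
      have : (y.toMul : Z) ∈ R ⊓ D := ⟨hy1, hy2⟩
      rw [hdisj] at this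
      exact this)
    (by
      rw [eq_top_iff]
      intro y _
      have : (y.toMul : Z) ∈ R ⊔ D := by rw [hsup]; exact mem_top _
      obtain ⟨r, hr, d, hd, h⟩ := mem_sup.mp this
      exact AddSubgroup.mem_sup.mpr ⟨Additive.ofMul r, hr, Additive.ofMul d, hd, congrArg Additive.ofMul h⟩)
    (by
      rintro _ ⟨t, ht, rfl⟩ d hd
      exact congrArg Additive.ofMul (hfix t ht d.toMul hd))
    (by
      rintro _ ⟨t, ht, rfl⟩ r hr
      exact hinv t ht r.toMul hr)
    (by
      intro x hx hx0 y hy hy0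
      obtain ⟨t, ht, h⟩ := htr x.toMul hx (fun h => hx0 (congrArg Additive.ofMul h)) y.toMul hy
        (fun h => hy0 (congrArg Additive.ofMul h))
      exact ⟨φ.rangeRestrict t, ⟨t, ht, rfl⟩, congrArg Additive.ofMul h⟩)
    (by
      rintro _ ⟨t, ht, rfl⟩ x hx hx0 hxx r hr
      exact congrArg Additive.ofMul (hfree t ht x.toMul hx (fun h => hx0 (congrArg Additive.ofMul h))
        (congrArg Additive.toMul hxx) r.toMul hr))
    (by exact h4)
    (by exact hle)
    (by
      intro a ha d hd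
      obtain ⟨s, hs, rfl⟩ := (hPA a).mp ha
      exact hPD s hs d.toMul hd)
    (by
      intro h
      obtain ⟨s, hs, hs1⟩ := hev h
      have h2 : φ.rangeRestrict s ∈ PA := (hPA _).mpr ⟨s, hs, rfl⟩
      have h3 : φ.rangeRestrict s ≠ 1 := fun h => hs1 (congrArg Subtype.val h)
      by_contra hcon
      apply h3
      have h4 : Nat.card PA = 1 := by
        obtain ⟨k, hk⟩ := IsPGroup.iff_card.mp PA.isPGroup'
        rcases Nat.eq_zero_or_pos k with rfl | hk0
        · rw [hk, pow_zero]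
        · exact absurd ((dvd_pow_self 2 hk0.ne').trans (hk ▸ card_subgroup_dvd_card (PA : Subgroup φ.range))) hcon
      have h5 := (Nat.card_eq_one_iff_unique.mp h4).1
      have h6 : (⟨φ.rangeRestrict s, h2⟩ : PA) = 1 := Subsingleton.elim _ _
      exact congrArg Subtype.val h6)
  intro n d hd
  exact h1 (φ.rangeRestrict n) (Additive.ofMul d) hd

end Hom

end Cfsg.Agent.Omega.NOThreeL.NsF.NormD
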