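import Cfsg.Agent.Omega.NOThreeL.RF.Lvl
import Cfsg.Agent.Omega.IId.ThmCQ.NsMk

/-!
# NO-3L, box R, case (A), `NsF` : `O₂(H) ≤ S₀` and `Z⁺ ≤ Ω₁ Z(O₂(H)) ≤ S₀`

`M : NatK F S P V D 1`, `q : Nsp.Sit F S P 1`, `S₀ = LS M`, `Z⁺ = Zp M`.

* `mem_LS_of_line` : an element of `S` trivial on the line of `V / D` is in `S₀`;
* `o2_le` : `HypM S P H`, `U_H ≤ S₀` imply `O₂(H) ≤ S₀`; `Zp_le` : `Z⁺ ≤ Ω₁ Z(O₂(H))`; `zc_le_LS` :
  `Ω₁ Z(O₂(H)) ≤ S₀`; `H_norm` : `H` normalises `Ω₁ Z(O₂(H))`.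
-/

set_option autoImplicit false
set_option linter.unusedSectionVars false

namespace Cfsg.Agent.Omega.NOThreeL.NsF

open Subgroup Cfsg Cfsg.Agent.Omega.MinPar
open Cfsg.Agent.ZN (zc zl o2)
open Cfsg.Agent.Omega.Frame Cfsg.Agent.Omega.FrameNOFF
open Cfsg.Agent.Omega.Node.NO3L Cfsg.Agent.Omega.NOThreeL.Basic
open Cfsg.Agent.Omega.NOThreeL.RTools (cm cm_def conj_mem_of_mem)
open Cfsg.Agent.Omega.FFThm (NatK ActsSL)
open Cfsg.Agent.Omega.FrameFF (cv)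
open Cfsg.Agent.Omega.HOne (cv_le conj_mem_zl conj_mem_cv)
open Cfsg.Agent.Omega.IId.ThmCQ.Nsp
open Cfsg.Agent.Omega.NOThreeL.RF
open Cfsg.Agent.Lib.SL2Mat
open Cfsg.Agent.Omega.NatPair (ap ap_mul ap_one ap_inv_ap)
open Cfsg.Agent.MinSimple.VModule (mem_zc o2_isPGroup le_normalizer_o2 le_o2)
open scoped Pointwise

universe u

variable {G : Type u} [Group G] [Finite G] {F : Type} [Field F] [Finite F] [CharP F 2] {S : Sylow 2 G}
  {P H : Subgroup G} {M : NatK F (S : Subgroup G) P (zl (S : Subgroup G) P) (cv (S : Subgroup G) P) 1}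

/-- an element of `S` trivial on the line of `V / D` is in `S₀` -/
theorem mem_LS_of_line (q : Sit F S P 1) {s : G} (hs : s ∈ (S : Subgroup G))
    (h : ∀ v ∈ Zp M, M.e (s * v * s⁻¹) 0 0 = M.e v 0 0) : s ∈ LS M := by
  obtain ⟨t, p, x, T⟩ := exists_tor (M := M) q
  have hsP : s ∈ P := q.h.le hs
  have hsN : s ∈ normalizer (LS M : Set G) := S_le_normalizer_LS q.h.le hs
  refine (T.dat q).field s hs fun l => ?_
  obtain rfl : l = 0 := Fin.eq_zero l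
  have hxN := T.nor 0
  obtain ⟨hxP, hxA⟩ := Al_iff.1 (T.al 0)
  set y := x 0 with hy
  obtain ⟨B, hB⟩ := IId.Ns.Sd.acts_conj M hsP hxP hxA
  have hcP : s * y * s⁻¹ ∈ P := mul_mem (mul_mem hsP hxP) (inv_mem hsP)
  have hcN : s * y * s⁻¹ ∈ normalizer (LS M : Set G) := mul_mem (mul_mem hsN hxN) (inv_mem hsN)
  have h10 : ent (B 0) 1 0 = 0 := tri_of_norm q hcP hcN hB 0
  -- the diagonal of `B`
  have h00 : ent (B 0) 0 0 = t := by
    obtain ⟨v, hv, hv1⟩ := exists_R (M := M) q 1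
    have hvZ : v ∈ Zp M := R_le_Zp q hv
    have huZ : s⁻¹ * v * s ∈ Zp M := by
      have h1 := conj_mem_of_mem (S_norm_Zp q (inv_mem hs)) hvZ
      rwa [inv_inv] at h1
    have e1 : s * (s⁻¹ * v * s) * s⁻¹ = v := by group
    have hu := h _ huZ
    rw [e1, hv1] at hu
    have hwZ : y * (s⁻¹ * v * s) * y⁻¹ ∈ Zp M := norm_Zp q hxP hxN huZ
    have hw := h _ hwZ
    have e2 : s * (y * (s⁻¹ * v * s) * y⁻¹) * s⁻¹ = s * y * s⁻¹ * v * (s * y * s⁻¹)⁻¹ := by group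
    rw [e2, hB.1 v (Zp_le hvZ) 0, hxA.1 _ (Zp_le huZ) 0, NatPair.ap_zero', NatPair.ap_zero', hv1, ← hu, hvZ.2,
      huZ.2] at hw
    simpa using hw
  have h11 : ent (B 0) 1 1 = t⁻¹ := by
    have h8 := det_eq (B 0)
    rw [h00, h10, mul_zero, sub_zero] at h8
    exact eq_inv_of_mul_eq_one_right h8
  have hBu : B 0 = up (ent (B 0) 0 1 * t) * dg t T.ne_zero := by
    apply ext_ent
    · rw [ent_mul, h00]; simp
    · rw [ent_mul]
      simp only [up_00, dg_01, mul_zero, up_01, dg_11, zero_add]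
      rw [mul_assoc, mul_inv_cancel₀ T.ne_zero, mul_one]
    · rw [ent_mul, h10]; simp
    · rw [ent_mul, h11]; simp
  have hzA : ActsSL M.e (zl (S : Subgroup G) P) (cv (S : Subgroup G) P) (s * y * s⁻¹ * y⁻¹)
      fun _ => up (ent (B 0) 0 1 * t) := by
    have h1 := IId.Ns.acts_mul M hcP (inv_mem hxP) hB (IId.Ns.acts_inv M hxP hxA)
    have h2 : (fun i => B i * (dg t T.ne_zero)⁻¹) =
        fun _ : Fin 1 => (up (ent (B 0) 0 1 * t) : Matrix.SpecialLinearGroup (Fin 2) F) := by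
      funext i
      obtain rfl : i = 0 := Fin.eq_zero i
      rw [mul_inv_eq_iff_eq_mul]
      exact hBu
    rwa [h2] at h1
  obtain ⟨w, hw, hwA⟩ := M.unip fun _ => ent (B 0) 0 1 * t
  have hwL : w ∈ LS M := mem_LS q.h.le hw hwA
  have hact := act_of_eq q (mul_mem hcP (inv_mem hxP)) (mul_mem hcN (inv_mem hxN)) (q.h.le hw)
    (Subgroup.le_normalizer hwL) hzA hwA
  intro e he
  have he' : y * s * e * (y * s)⁻¹ ∈ zc (LS M) :=
    conj_mem_of_mem (MinSimple.VModule.normalizer_le_normalizer_zc _ (mul_mem hxN hsN)) he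
  have h1 := hact _ he'
  have h2 : w * (y * s * e * (y * s)⁻¹) * w⁻¹ = y * s * e * (y * s)⁻¹ := by
    rw [(mem_zc.1 he').2.1 w hwL, mul_inv_cancel_right]
  rw [h2] at h1
  rw [← h1]
  group

section H

variable (D : HypM S P H) (q : Sit F S P 1) (hU : zl (S : Subgroup G) H ≤ LS M)
include D q hU

/-- **`O₂(H) ≤ S₀`** -/
theorem o2_le : o2 H ≤ LS M := by
  -- `u ∈ U`, `β(u) ≠ 0`
  obtain ⟨u, hu, hub⟩ : ∃ u ∈ zl (S : Subgroup G) H, bet M u ≠ 0 := by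
    by_contra hcon
    push Not at hcon
    refine D.ne ?_
    intro v hv
    rw [mem_centralizer_iff]
    intro u hu
    have h1 := (bet_eq_zero q (hU hu)).1 (hcon u hu)
    exact (mem_centralizer_iff.mp h1 v hv).symm
  intro w hw
  have hwS : w ∈ (S : Subgroup G) := D.long.loc.o2_le S hw
  refine mem_LS_of_line q hwS fun z hz => ?_
  obtain ⟨v, hv, hvc⟩ : ∃ v ∈ zl (S : Subgroup G) P, M.e v 0 1 = M.e z 0 0 * (bet M u)⁻¹ := by
    obtain ⟨v, hv, h⟩ := M.surj fun _ => ![0, M.e z 0 0 * (bet M u)⁻¹]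
    exact ⟨v, hv, by rw [h]; rfl⟩
  obtain ⟨h1, h2⟩ := e_cm q hv (hU hu)
  rw [hvc, inv_mul_cancel_right₀ hub] at h2
  -- `y = [v,u] ∈ U`
  set y := cm v u with hy
  have hyU : y ∈ zl (S : Subgroup G) H := by
    have e1 : y = (v * u * v⁻¹) * u⁻¹ := by rw [hy, cm_def]
    rw [e1]
    exact mul_mem (conj_mem_of_mem (D.HU (D.SH (V_le_S q hv))) hu) (inv_mem hu)
  have hwy : w * y * w⁻¹ = y := by
    rw [← mem_centralizer_iff.mp (D.o2_cent hw) y hyU, mul_inv_cancel_right]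
  have hd : y⁻¹ * z ∈ cv (S : Subgroup G) P := by
    have hmem : y⁻¹ * z ∈ Zp M := mul_mem (inv_mem h1) hz
    refine (mem_D (M := M) (Zp_le hmem)).2 ⟨?_, hmem.2⟩
    rw [e_add (M := M) (Zp_le (inv_mem h1)) (Zp_le hz) 0, e_inv' (M := M) (Zp_le h1) 0, h2]
    exact CharTwo.add_self_eq_zero _
  have hd' : w * (y⁻¹ * z) * w⁻¹ ∈ cv (S : Subgroup G) P := conj_mem_cv (q.h.le hwS) hd
  have e2 : w * z * w⁻¹ = (w * y * w⁻¹) * (w * (y⁻¹ * z) * w⁻¹) := by group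
  rw [e2, hwy, e_add (M := M) (Zp_le h1) (cv_le _ _ hd') 0, h2, e_D hd' 0, add_zero]

/-- `Z⁺ ≤ Ω₁ Z(O₂(H))` -/
theorem Zp_le_zc : Zp M ≤ zc (o2 H) := by
  intro z hz
  have h1 : ∀ w ∈ o2 H, w * z = z * w := fun w hw => Zp_comm q hz (o2_le D q hU hw)
  have hzH : z ∈ H := D.SH (V_le_S q (Zp_le hz))
  have h2 : z ∈ o2 H := by
    refine D.long.loc.char2 S D.hc (mem_inf.mpr ⟨hzH, ?_⟩)
    rw [mem_centralizer_iff]
    exact h1
  exact mem_zc.mpr ⟨h2, h1, by rw [pow_two]; exact sqV' q (Zp_le hz)⟩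

theorem zc_le_LS : zc (o2 H) ≤ LS M := (MinSimple.VModule.zc_le _).trans (o2_le D q hU)

end H

theorem H_norm (H : Subgroup G) : H ≤ normalizer (zc (o2 H) : Set G) :=
  (le_normalizer_o2 H).trans (MinSimple.VModule.normalizer_le_normalizer_zc _)

/-- `C_{S₀}(v) = C_{S₀}(V)` for `v ∈ V - Z⁺` -/
theorem cent_of (q : Sit F S P 1) {v u : G} (hv : v ∈ zl (S : Subgroup G) P) (hvZ : v ∉ Zp M) (hu : u ∈ LS M)
    (h : v * u = u * v) : ∀ w ∈ zl (S : Subgroup G) P, w * u = u * w := by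
  have h1 := (e_cm q hv hu).2
  have h2 : cm v u = 1 := by rw [cm_def, h]; group
  rw [h2, IId.Cv.e_one M] at h1
  have h3 : bet M u = 0 := by
    rcases mul_eq_zero.mp h1.symm with h4 | h4
    · exact absurd ⟨hv, h4⟩ hvZ
    · exact h4
  exact fun w hw => mem_centralizer_iff.mp ((bet_eq_zero q hu).1 h3) w hw

end Cfsg.Agent.Omega.NOThreeL.NsF
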